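import Cfsg.Agent.Lib.Spor.SylowList
import Cfsg.Agent.Lib.Spor.CommutingPairs

/-!
# An element of order five of `Cfsg.M24` and its centralizer
-/

set_option autoImplicit false
set_option maxRecDepth 100000

namespace CfsgLib.Char.MTwentyFourOrder

open CfsgLib.Spor

/-- An element of order five. -/
def fiveElt : ℕ := 914710267296232275125661341344433363

/-- A complement in its centralizer. -/
def fiveCompl : List ℕ := [
  49448838393900022050495222353381804,
  50034499309118880255893796920891116,
  50204373706603210803683164704352492,
  302573627308827876146874152378730542,
  302629399534119057256997418631219630,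
  303329162498227707918411899197757166,
  559592123074603692323642177595549940,
  559647896499175234166363294233433844,
  560177783815716002602653611549427764,
  984118481745752425368521699505580256,
  984648368938989836823161821289630112,
  984818244535754528103549039458486304]

/-- The centralizer of `fiveElt`. -/
def fiveCent : List ℕ := (List.range 5).flatMap fun i => fiveCompl.map fun k => permMulCode (powCode fiveElt i) k

/-- The order of a code of small order. -/
def ordCode (c : ℕ) : ℕ :=
  ([1, 2, 3, 5, 6, 7, 10, 14, 15, 21].find? fun m => powCode c m == idPacked).getD 0

/-- The order found is the order. -/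
def ordOk (c : ℕ) : Bool :=
  decide (0 < ordCode c) && (powCode c (ordCode c) == idPacked) &&
    (List.range (ordCode c)).all fun k => decide (k = 0) || !(powCode c k == idPacked)

theorem fiveElt_facts : isM24Code fiveElt = true ∧ ordCode fiveElt = 5 ∧ ordOk fiveElt = true ∧
    (permMulCode idPacked fiveElt == fiveElt) = true := by decide +kernel

theorem fiveCent_facts : fiveCent.all (fun c => isM24Code c && commCodes c fiveElt &&
    (permMulCode idPacked c == c) && ordOk c) = true ∧ fiveCent.Nodup ∧ fiveCent.length = 60 := by
  decide +kernel

theorem fiveCent_orders : (fiveCent.map ordCode).count 1 = 1 ∧ (fiveCent.map ordCode).count 2 = 3 ∧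
    (fiveCent.map ordCode).count 3 = 8 ∧ (fiveCent.map ordCode).count 5 = 4 ∧
    (fiveCent.map ordCode).count 10 = 12 ∧ (fiveCent.map ordCode).count 15 = 32 := by decide +kernel

end CfsgLib.Char.MTwentyFourOrder
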