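import Cfsg.Agent.Lib.Char.MEleven.Order.Nse

/-!
# Centralizers of elements of prime order with prescribed numbers of involutions and of elements of order three
-/

set_option autoImplicit false
set_option linter.unusedSectionVars false

open Subgroup

namespace CfsgLib.Char.MTwentyFourOrder

open CfsgLib.Char.MEleven.Order (card_order_prime)

variable {C : Type*} [Group C] [Finite C]

/-- A cyclic group of even order has one involution. -/
theorem cyclic_inv_one [IsCyclic C] (h : 2 ∣ Nat.card C) : Nat.card {t : C // orderOf t = 2} = 1 := by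
  classical
  haveI := Fintype.ofFinite C
  rw [Nat.card_eq_fintype_card, Fintype.card_subtype,
    IsCyclic.card_orderOf_eq_totient (by rwa [← Nat.card_eq_fintype_card]), Nat.totient_two]

/-- A group of order twice an odd prime with a central element of that order has one involution. -/
theorem two_mul_inv_one {p : ℕ} [hp : Fact p.Prime] (hp2 : p ≠ 2) {x : C} (hx : orderOf x = p)
    (hcen : ∀ c : C, Commute c x) (hC : Nat.card C = p * 2) : Nat.card {t : C // orderOf t = 2} = 1 := by
  haveI : Fact (Nat.Prime 2) := ⟨Nat.prime_two⟩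
  obtain ⟨s, hs⟩ := exists_prime_orderOf_dvd_card' (G := C) 2 (by rw [hC]; exact dvd_mul_left 2 p)
  have ho : orderOf (x * s) = p * 2 := by
    rw [(hcen s).symm.orderOf_mul_eq_mul_orderOf_of_coprime, hx, hs]
    rw [hx, hs]
    exact (Nat.coprime_primes hp.out Nat.prime_two).2 hp2
  haveI : IsCyclic C := isCyclic_of_orderOf_eq_card (x * s) (by rw [ho, hC])
  exact cyclic_inv_one (by rw [hC]; exact dvd_mul_left 2 p)

/-- With Sylow 3-subgroups of order three and a central element of prime order `p` the number of elements of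
order three is twice a divisor of the cofactor. -/
theorem three_count {p k : ℕ} [hp : Fact p.Prime] (hp3 : p ≠ 3) {x : C} (hx : orderOf x = p)
    (hcen : ∀ c : C, Commute c x) (hC : Nat.card C = 3 * p * k) (hk : ¬ 3 ∣ k) :
    (∀ S : Sylow 3 C, Nat.card (S : Subgroup C) = 3) ∧
      Nat.card {t : C // orderOf t = 3} = 2 * Nat.card (Sylow 3 C) ∧
      Nat.card (Sylow 3 C) % 3 = 1 ∧ Nat.card (Sylow 3 C) ∣ k := by
  haveI : Fact (Nat.Prime 3) := ⟨Nat.prime_three⟩
  have hk0 : k ≠ 0 := fun h => hk (h ▸ dvd_zero 3)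
  have hp3' : ¬ 3 ∣ p := fun h => hp3 ((Nat.prime_dvd_prime_iff_eq Nat.prime_three hp.out).1 h).symm
  have hS : ∀ S : Sylow 3 C, Nat.card (S : Subgroup C) = 3 := fun S => by
    rw [S.card_eq_multiplicity, hC, Nat.factorization_mul (by have := hp.out.ne_zero; omega) hk0,
      Nat.factorization_mul (by norm_num) hp.out.ne_zero, Finsupp.add_apply, Finsupp.add_apply,
      Nat.Prime.factorization_self Nat.prime_three, Nat.factorization_eq_zero_of_not_dvd hp3',
      Nat.factorization_eq_zero_of_not_dvd hk]
    rfl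
  refine ⟨hS, by rw [card_order_prime hS, mul_comm], card_sylow_modEq_one 3 C, ?_⟩
  obtain ⟨S⟩ : Nonempty (Sylow 3 C) := inferInstance
  set N := normalizer ((S : Subgroup C) : Set C)
  have hxN : x ∈ N := by
    refine centralizer_le_normalizer _ (mem_centralizer_iff.2 fun s _ => ?_)
    exact (hcen s).eq
  have h1 : 3 * p ∣ Nat.card N := by
    refine Nat.Coprime.mul_dvd_of_dvd_of_dvd ((Nat.coprime_primes Nat.prime_three hp.out).2 (Ne.symm hp3)) ?_ ?_
    · exact (hS S) ▸ card_dvd_of_le le_normalizer
    · exact hx ▸ Subgroup.orderOf_dvd_natCard N hxN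
  have h2 : Nat.card (Sylow 3 C) * Nat.card N = 3 * p * k := by
    rw [S.card_eq_index_normalizer, ← hC]; exact index_mul_card N
  obtain ⟨j, hj⟩ := h1
  refine ⟨j, Nat.eq_of_mul_eq_mul_left (show 0 < 3 * p by have := hp.out.pos; omega) ?_⟩
  rw [← h2, hj]; ring

/-- In order 42 there are two elements of order three. -/
theorem seven_three {x : C} (hx : orderOf x = 7) (hcen : ∀ c : C, Commute c x) (hC : Nat.card C = 42) :
    Nat.card {t : C // orderOf t = 3} = 2 := by
  haveI : Fact (Nat.Prime 7) := ⟨by norm_num⟩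
  obtain ⟨-, h1, h2, h3⟩ := three_count (k := 2) (by norm_num) hx hcen (by rw [hC]) (by norm_num)
  have : Nat.card (Sylow 3 C) ≤ 2 := Nat.le_of_dvd (by norm_num) h3
  omega

/-! ### The centralizer of an element of order five -/

theorem perm_four_facts :
    (Finset.univ.filter fun σ : Equiv.Perm (Fin 4) => σ ^ 2 = 1 ∧ σ ≠ 1).card = 9 ∧
    (Finset.univ.filter fun σ : Equiv.Perm (Fin 4) => σ ^ 2 = 1 ∧ Equiv.Perm.sign σ = 1).card = 4 ∧
    ∀ σ : Equiv.Perm (Fin 4), Equiv.Perm.sign σ = 1 → σ ^ 2 = 1 ∨ σ ^ 3 = 1 := by decide +kernel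

/-- A centralizer of order 60 or 120 with these numbers has order 60 and no element of order 20 or 30. -/
theorem five_structure {x : C} (hx : orderOf x = 5) (hcen : ∀ c : C, Commute c x)
    (hd : Nat.card C ∣ 120) (h5 : 5 ∣ Nat.card C)
    (h2 : Nat.card {t : C // orderOf t = 2} % 5 = 3) (h3 : Nat.card {t : C // orderOf t = 3} % 5 = 3) :
    Nat.card C = 60 ∧ ∀ g : C, orderOf g ≠ 20 ∧ orderOf g ≠ 30 := by
  classical
  haveI : Fact (Nat.Prime 3) := ⟨Nat.prime_three⟩
  haveI : Fact (Nat.Prime 5) := ⟨by norm_num⟩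
  haveI : Fact (Nat.Prime 2) := ⟨Nat.prime_two⟩
  have hd3 : 3 ∣ Nat.card C := by
    obtain ⟨t⟩ : Nonempty {t : C // orderOf t = 3} := (Nat.card_pos_iff.1 (by omega)).1
    exact t.2 ▸ orderOf_dvd_natCard (t : C)
  obtain ⟨k, hk⟩ : 3 * 5 ∣ Nat.card C :=
    Nat.Coprime.mul_dvd_of_dvd_of_dvd (by norm_num) hd3 h5
  have hk8 : k ∣ 8 := by
    rw [hk] at hd
    exact Nat.dvd_of_mul_dvd_mul_left (by norm_num : 0 < 3 * 5) (by norm_num; exact hd)
  have hk8' : k ≤ 8 := Nat.le_of_dvd (by norm_num) hk8
  have hk3 : ¬ 3 ∣ k := fun h => by have := h.trans hk8; norm_num at this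
  obtain ⟨hS, hcount, hmod, hn3⟩ := three_count (p := 5) (k := k) (by norm_num) hx hcen hk hk3
  have hle : Nat.card (Sylow 3 C) ≤ k := Nat.le_of_dvd (Nat.pos_of_ne_zero fun h => hk3 (h ▸ dvd_zero 3)) hn3
  have hn4 : Nat.card (Sylow 3 C) = 4 := by omega
  have hk4 : k = 4 ∨ k = 8 := by
    obtain ⟨j, hj⟩ := hn4 ▸ hn3
    omega
  haveI := Fintype.ofFinite (Sylow 3 C)
  let e4 : Sylow 3 C ≃ Fin 4 := Fintype.equivFinOfCardEq (by rw [← Nat.card_eq_fintype_card]; exact hn4)
  let φ : C →* Equiv.Perm (Fin 4) := e4.permCongrHom.toMonoidHom.comp (MulAction.toPermHom C (Sylow 3 C))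
  have hφker : ∀ g : C, φ g = 1 ↔ ∀ S : Sylow 3 C, g • S = S := by
    intro g
    constructor
    · intro h S
      have h1 : MulAction.toPermHom C (Sylow 3 C) g = 1 :=
        e4.permCongrHom.injective (by rw [map_one]; exact h)
      exact DFunLike.congr_fun h1 S
    · intro h
      have h1 : MulAction.toPermHom C (Sylow 3 C) g = 1 := Equiv.Perm.ext h
      show e4.permCongrHom (MulAction.toPermHom C (Sylow 3 C) g) = 1
      rw [h1, map_one]
  have hxL : x ∈ φ.ker := by
    rw [MonoidHom.mem_ker, hφker]
    intro S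
    refine Sylow.smul_eq_iff_mem_normalizer.2 (centralizer_le_normalizer _ (mem_centralizer_iff.2 fun s _ => ?_))
    exact (hcen s).eq
  have h3L : ¬ 3 ∣ Nat.card φ.ker := by
    intro h
    obtain ⟨u, hu⟩ := exists_prime_orderOf_dvd_card' 3 h
    have hu' : orderOf (u : C) = 3 := by rw [Subgroup.orderOf_coe]; exact hu
    have hmem : ∀ S : Sylow 3 C, (S : Subgroup C) = zpowers (u : C) := by
      intro S
      have hn : (u : C) ∈ normalizer ((S : Subgroup C) : Set C) :=
        Sylow.smul_eq_iff_mem_normalizer.1 ((hφker _).1 u.2 S)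
      obtain ⟨T, hT⟩ := (IsPGroup.of_card (p := 3) (n := 1) (G := zpowers (u : C))
        (by rw [Nat.card_zpowers, hu', pow_one])).exists_le_sylow
      have hTe : zpowers (u : C) = (T : Subgroup C) :=
        eq_of_le_of_card_ge hT (by rw [hS, Nat.card_zpowers, hu'])
      have hsup : IsPGroup 3 ((zpowers (u : C)) ⊔ (S : Subgroup C) : Subgroup C) :=
        IsPGroup.to_sup_of_normal_right' (hTe ▸ T.isPGroup') S.isPGroup' (zpowers_le.2 hn)
      have hSe := S.is_maximal' hsup le_sup_right
      refine (eq_of_le_of_card_ge ?_ (by rw [hS, Nat.card_zpowers, hu'])).symm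
      exact le_sup_left.trans hSe.le
    haveI : Subsingleton (Sylow 3 C) := ⟨fun S T => Sylow.ext ((hmem S).trans (hmem T).symm)⟩
    have := Nat.card_of_subsingleton (Classical.arbitrary (Sylow 3 C))
    omega
  have h5L : 5 ∣ Nat.card φ.ker := hx ▸ Subgroup.orderOf_dvd_natCard _ hxL
  have hrange4 : 4 ∣ Nat.card φ.range := by
    let ψ := MulAction.toPermHom C (Sylow 3 C)
    have h1 : MulAction.IsPretransitive ψ.range (Sylow 3 C) := ⟨fun S T => by
      obtain ⟨g, hg⟩ := MulAction.exists_smul_eq C S T
      exact ⟨⟨ψ g, g, rfl⟩, hg⟩⟩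
    have h2 : Nat.card (Sylow 3 C) ∣ Nat.card ψ.range := by
      rw [← MulAction.index_stabilizer_of_transitive ψ.range (Classical.arbitrary (Sylow 3 C))]
      exact index_dvd_card _
    rw [hn4] at h2
    have he : φ.range = ψ.range.map e4.permCongrHom.toMonoidHom := MonoidHom.range_comp _ _
    rw [he, card_map_of_injective e4.permCongrHom.injective]
    exact h2
  have hprod : Nat.card φ.ker * Nat.card φ.range = 15 * k := by
    rw [← Subgroup.index_ker, card_mul_index, hk]
  have hr24 : Nat.card φ.range ∣ 24 := by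
    have := card_subgroup_dvd_card φ.range
    rwa [Nat.card_perm, Nat.card_fin] at this
  have hrd3 : 3 ∣ Nat.card φ.range := by
    have : 3 ∣ Nat.card φ.ker * Nat.card φ.range := by rw [hprod]; exact dvd_mul_of_dvd_left (by norm_num) k
    exact ((Nat.Prime.dvd_mul Nat.prime_three).1 this).resolve_left h3L
  have hr : Nat.card φ.range = 12 ∨ Nat.card φ.range = 24 := by
    have h12 : 3 * 4 ∣ Nat.card φ.range := Nat.Coprime.mul_dvd_of_dvd_of_dvd (by norm_num) hrd3 hrange4
    obtain ⟨j, hj⟩ := h12
    have := Nat.le_of_dvd (by norm_num) hr24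
    have : j ≠ 0 := fun h => by rw [h, mul_zero] at hj; exact Nat.card_pos.ne' hj
    omega
  have hker_pow : ∀ g : C, φ g = 1 → Nat.card φ.ker = 5 → g ^ 5 = 1 := fun g hg h =>
    orderOf_dvd_iff_pow_eq_one.1 (h ▸ Subgroup.orderOf_dvd_natCard φ.ker hg)
  have halt : Nat.card φ.range = 12 → ∀ g : C, Equiv.Perm.sign (φ g) = 1 := by
    intro h g
    have hidx : φ.range.index = 2 := by
      have := card_mul_index φ.range
      rw [Nat.card_perm, Nat.card_fin, h] at this
      simp [Nat.factorial] at this
      omega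
    have hmem : φ g ∈ φ.range := ⟨g, rfl⟩
    rw [Equiv.Perm.eq_alternatingGroup_of_index_eq_two hidx] at hmem
    exact Equiv.Perm.mem_alternatingGroup.1 hmem
  rcases hr with hr | hr
  · rcases hk4 with rfl | rfl
    · refine ⟨hk, fun g => ?_⟩
      have hL5 : Nat.card φ.ker = 5 := by rw [hr] at hprod; omega
      rcases perm_four_facts.2.2 (φ g) (halt hr g) with h | h <;>
        [have hg := hker_pow (g ^ 2) (by rw [map_pow, h]) hL5; have hg := hker_pow (g ^ 3) (by rw [map_pow, h]) hL5] <;>
        rw [← pow_mul, ← orderOf_dvd_iff_pow_eq_one] at hg <;>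
        refine ⟨fun e => ?_, fun e => ?_⟩ <;> rw [e] at hg <;> norm_num at hg
    · exfalso
      have hL10 : Nat.card φ.ker = 10 := by rw [hr] at hprod; omega
      obtain ⟨s, hs⟩ := exists_prime_orderOf_dvd_card' (G := φ.ker) 2 (by rw [hL10]; norm_num)
      have hcenL : ∀ c : φ.ker, Commute c (⟨x, hxL⟩ : φ.ker) := fun c => Subtype.ext (hcen c).eq
      have hL1 : Nat.card {t : φ.ker // orderOf t = 2} = 1 :=
        two_mul_inv_one (p := 5) (by norm_num) (by rw [← Subgroup.orderOf_coe]; exact hx) hcenL hL10
      haveI hsub : Subsingleton {t : φ.ker // orderOf t = 2} :=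
        (Nat.card_eq_one_iff_unique.1 hL1).1
      have huniq : ∀ t : C, t ∈ φ.ker → orderOf t = 2 → t = (s : C) := fun t ht ho => by
        have := congrArg Subtype.val (Subsingleton.elim (⟨⟨t, ht⟩, by rw [← Subgroup.orderOf_coe]; exact ho⟩ :
          {t : φ.ker // orderOf t = 2}) ⟨s, hs⟩)
        exact congrArg Subtype.val this
      have hso : orderOf (s : C) = 2 := by rw [Subgroup.orderOf_coe]; exact hs
      have hscen : ∀ c : C, Commute c (s : C) := fun c => by
        have h := huniq (c * s * c⁻¹) (φ.normal_ker.conj_mem _ s.2 c)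
          (by rw [← MulAut.conj_apply, MulEquiv.orderOf_eq]; exact hso)
        exact mul_inv_eq_iff_eq_mul.1 h
      obtain ⟨u, hu⟩ := exists_prime_orderOf_dvd_card' (G := C) 3 hd3
      set g := x * s * u with hg
      have hgo : orderOf g = 30 := by
        have h1 : orderOf (x * (s : C)) = 10 := by
          rw [(hcen (s : C)).symm.orderOf_mul_eq_mul_orderOf_of_coprime (by rw [hx, hso]; norm_num), hx, hso]
        rw [hg, ((hcen u).symm.mul_left (hscen u).symm).orderOf_mul_eq_mul_orderOf_of_coprime
          (by rw [h1, hu]; norm_num), h1, hu]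
      set U := centralizer ({u} : Set C) with hU
      have hgU : g ∈ U := mem_centralizer_singleton_iff.2
        (((hcen u).symm.mul_left (hscen u).symm).mul_left (Commute.refl u)).eq
      obtain ⟨T, hT⟩ := (IsPGroup.of_card (p := 3) (n := 1) (G := zpowers u)
        (by rw [Nat.card_zpowers, hu, pow_one])).exists_le_sylow
      have hTe : zpowers u = (T : Subgroup C) := eq_of_le_of_card_ge hT (by rw [hS, Nat.card_zpowers, hu])
      have hN30 : Nat.card (normalizer ((T : Subgroup C) : Set C)) = 30 := by
        have h1 : Nat.card (Sylow 3 C) * Nat.card (normalizer ((T : Subgroup C) : Set C)) = 3 * 5 * 8 := by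
          rw [T.card_eq_index_normalizer, ← hk]; exact index_mul_card _
        rw [hn4] at h1
        omega
      have hUN : U ≤ normalizer ((T : Subgroup C) : Set C) := by
        refine fun c hc => centralizer_le_normalizer _ (mem_centralizer_iff.2 fun w hw => ?_)
        rw [← hTe] at hw
        obtain ⟨j, rfl⟩ := mem_zpowers_iff.1 hw
        exact ((show Commute u c from (mem_centralizer_singleton_iff.1 hc).symm).zpow_left j).eq
      have hU30 : Nat.card U = 30 := by
        refine Nat.dvd_antisymm (hN30 ▸ card_dvd_of_le hUN) ?_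
        exact hgo ▸ Subgroup.orderOf_dvd_natCard U hgU
      haveI : IsCyclic U :=
        isCyclic_of_orderOf_eq_card ⟨g, hgU⟩ (by rw [← Subgroup.orderOf_coe, hU30]; exact hgo)
      have hone : Nat.card {t : C // orderOf t = 2 ∧ t * u = u * t} = 1 := by
        refine Eq.trans (Nat.card_congr ?_) (cyclic_inv_one (C := U) (by rw [hU30]; norm_num))
        exact ⟨fun t => ⟨⟨t.1, mem_centralizer_singleton_iff.2 t.2.2⟩, by rw [← Subgroup.orderOf_coe]; exact t.2.1⟩,
          fun t => ⟨t.1.1, by rw [Subgroup.orderOf_coe]; exact t.2, mem_centralizer_singleton_iff.1 t.1.2⟩,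
          fun t => rfl, fun t => rfl⟩
      have hmod3 : Nat.card {t : C // orderOf t = 2} % 3 = 1 := by
        haveI := Fintype.ofFinite C
        letI : MulAction (zpowers u) {t : C // orderOf t = 2} :=
          { smul := fun a t => ⟨(a : C) * t * (a : C)⁻¹, by rw [← MulAut.conj_apply, MulEquiv.orderOf_eq]; exact t.2⟩
            one_smul := fun t => Subtype.ext (show (1 : C) * (t : C) * (1 : C)⁻¹ = t by group)
            mul_smul := fun a b t => Subtype.ext
              (show (a : C) * b * t * ((a : C) * b)⁻¹ = a * (b * t * (b : C)⁻¹) * (a : C)⁻¹ by group) }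
        have hP : IsPGroup 3 (zpowers u) := IsPGroup.of_card (n := 1) (by rw [Nat.card_zpowers, hu, pow_one])
        have h := hP.card_modEq_card_fixedPoints {t : C // orderOf t = 2}
        rw [show Nat.card (MulAction.fixedPoints (zpowers u) {t : C // orderOf t = 2}) = 1 from ?_] at h
        · exact h
        refine Eq.trans (Nat.card_congr ?_) hone
        refine ⟨fun t => ⟨t.1.1, t.1.2, ?_⟩, fun t => ⟨⟨t.1, t.2.1⟩, ?_⟩, fun t => rfl, fun t => rfl⟩
        · have h1 := congrArg Subtype.val (t.2 ⟨u, mem_zpowers u⟩)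
          change u * t.1.1 * u⁻¹ = t.1.1 at h1
          exact (mul_inv_eq_iff_eq_mul.1 h1).symm
        · rintro ⟨a, ha⟩
          obtain ⟨j, rfl⟩ := mem_zpowers_iff.1 ha
          refine Subtype.ext ?_
          change u ^ j * t.1 * (u ^ j)⁻¹ = t.1
          rw [← ((show Commute t.1 u from t.2.2).zpow_right j).eq, mul_inv_cancel_right]
      haveI := Fintype.ofFinite C
      have hbound : Nat.card {t : C // orderOf t = 2} ≤ 8 := by
        rw [Nat.card_eq_fintype_card, Fintype.card_subtype]
        refine le_trans (Finset.card_le_mul_card_image (f := ⇑φ) _ 2 fun σ _ => ?_) (le_trans (Nat.mul_le_mul_left 2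
          (Finset.card_le_card (t := Finset.univ.filter fun σ : Equiv.Perm (Fin 4) => σ ^ 2 = 1 ∧
            Equiv.Perm.sign σ = 1) ?_)) (by rw [perm_four_facts.2.1]))
        · by_cases hne : ((Finset.univ.filter fun t : C => orderOf t = 2).filter fun t => φ t = σ).Nonempty
          · obtain ⟨t, ht⟩ := hne
            simp only [Finset.mem_filter, Finset.mem_univ, true_and] at ht
            refine le_trans (Finset.card_le_card (t := {t, t * (s : C)}) fun w hw => ?_) Finset.card_le_two
            simp only [Finset.mem_filter, Finset.mem_univ, true_and] at hw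
            have hl : t⁻¹ * w ∈ φ.ker := by
              rw [MonoidHom.mem_ker, map_mul, map_inv, ht.2, hw.2, inv_mul_cancel]
            have hlc : Commute t (t⁻¹ * w) := by
              have hgen : ∀ l ∈ φ.ker, Commute t l := by
                intro l hl'
                have hcyc : orderOf (x * (s : C)) = 10 := by
                  rw [(hcen (s : C)).symm.orderOf_mul_eq_mul_orderOf_of_coprime (by rw [hx, hso]; norm_num), hx, hso]
                have hgl : zpowers (x * (s : C)) = φ.ker :=
                  eq_of_le_of_card_ge (zpowers_le.2 (mul_mem hxL s.2)) (by rw [hL10, Nat.card_zpowers, hcyc])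
                rw [← hgl] at hl'
                obtain ⟨j, rfl⟩ := mem_zpowers_iff.1 hl'
                exact ((hcen t).mul_right (hscen t)).zpow_right j
              exact hgen _ hl
            have hl2 : (t⁻¹ * w) ^ 2 = 1 := by
              have hw2 := orderOf_dvd_iff_pow_eq_one.1 (dvd_of_eq hw.1)
              have ht2 := orderOf_dvd_iff_pow_eq_one.1 (dvd_of_eq ht.1)
              have h := hlc.mul_pow 2
              rw [mul_inv_cancel_left, hw2, ht2, one_mul] at h
              exact h.symm
            rcases (Nat.dvd_prime Nat.prime_two).1 (orderOf_dvd_of_pow_eq_one hl2) with h | h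
            · rw [orderOf_eq_one_iff, inv_mul_eq_one] at h
              simp [h]
            · have := huniq _ hl h
              rw [inv_mul_eq_iff_eq_mul] at this
              simp [this]
          · rw [Finset.not_nonempty_iff_eq_empty.1 hne]; simp
        · intro σ hσ
          simp only [Finset.mem_image, Finset.mem_filter, Finset.mem_univ, true_and] at hσ ⊢
          obtain ⟨t, ht, rfl⟩ := hσ
          exact ⟨by rw [← map_pow, orderOf_dvd_iff_pow_eq_one.1 (dvd_of_eq ht), map_one], halt hr t⟩
      omega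
  · exfalso
    have hk8e : k = 8 ∧ Nat.card φ.ker = 5 := by
      rw [hr] at hprod
      obtain ⟨j, hj⟩ := h5L
      omega
    haveI := Fintype.ofFinite C
    have h9 : Nat.card {t : C // orderOf t = 2} = 9 := by
      rw [Nat.card_eq_fintype_card, Fintype.card_subtype, ← perm_four_facts.1]
      refine Finset.card_bij (fun t _ => φ t) (fun t ht => ?_) (fun t ht w hw e => ?_) fun σ hσ => ?_
      · simp only [Finset.mem_filter, Finset.mem_univ, true_and] at ht ⊢
        refine ⟨by rw [← map_pow, orderOf_dvd_iff_pow_eq_one.1 (dvd_of_eq ht), map_one], fun h => ?_⟩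
        have h2 := Subgroup.orderOf_dvd_natCard φ.ker (MonoidHom.mem_ker.2 h)
        rw [ht, hk8e.2] at h2
        norm_num at h2
      · simp only [Finset.mem_filter, Finset.mem_univ, true_and] at ht hw
        have hl : t⁻¹ * w ∈ φ.ker := by
          rw [MonoidHom.mem_ker, map_mul, map_inv, e, inv_mul_cancel]
        have hLe : zpowers x = φ.ker :=
          eq_of_le_of_card_ge (zpowers_le.2 hxL) (by rw [hk8e.2, Nat.card_zpowers, hx])
        rw [← hLe] at hl
        obtain ⟨j, hj⟩ := mem_zpowers_iff.1 hl
        have hw' : w = t * x ^ j := by rw [hj, mul_inv_cancel_left]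
        have h5 : (x ^ j) ^ 5 = 1 := by
          rw [← zpow_natCast, ← zpow_mul, mul_comm, zpow_mul, zpow_natCast, ← hx, pow_orderOf_eq_one, one_zpow]
        have h2' : (x ^ j) ^ 2 = 1 := by
          have h := ((hcen t).zpow_right j).mul_pow 2
          rw [← hw', orderOf_dvd_iff_pow_eq_one.1 (dvd_of_eq hw), orderOf_dvd_iff_pow_eq_one.1 (dvd_of_eq ht),
            one_mul] at h
          exact h.symm
        have h1 : x ^ j = 1 := by
          have := pow_gcd_eq_one.2 ⟨h2', h5⟩
          simpa using this
        rw [hw', h1, mul_one]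
      · simp only [Finset.mem_filter, Finset.mem_univ, true_and] at hσ ⊢
        have htop : φ.range = ⊤ := Subgroup.eq_top_of_card_eq _
          (by rw [hr, Nat.card_perm, Nat.card_fin]; rfl)
        obtain ⟨w, hw⟩ := (htop ▸ mem_top σ : σ ∈ φ.range)
        refine ⟨w ^ 5, ?_, ?_⟩
        · refine orderOf_eq_prime ?_ fun h => hσ.2 ?_
          · rw [← pow_mul, show 5 * 2 = 2 * 5 from rfl, pow_mul]
            exact hker_pow (w ^ 2) (by rw [map_pow, hw, hσ.1]) hk8e.2
          · have := congrArg φ h
            rwa [map_pow, hw, map_one, show (5 : ℕ) = 2 * 2 + 1 from rfl, pow_succ, pow_mul, hσ.1, one_pow,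
              one_mul] at this
        · rw [map_pow, hw, show (5 : ℕ) = 2 * 2 + 1 from rfl, pow_succ, pow_mul, hσ.1, one_pow, one_mul]
    rw [h9] at h2
    omega

end CfsgLib.Char.MTwentyFourOrder
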