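import Cfsg.Agent.Lib.Char.MTwentyFourOrder.Nse.FiveData
import Cfsg.Agent.Lib.Spor.OneBlock.MTwentyFour

/-!
# The numbers of elements of each order of `Cfsg.M24` modulo 23, 11, 7 and 5
-/

set_option autoImplicit false
set_option linter.unusedSectionVars false

open Cfsg CfsgLib.Spor Subgroup

namespace CfsgLib.Char.MTwentyFourOrder

section General

variable {G : Type*} [Group G] [Finite G]

/-- The number of elements of a given order is congruent to the number of those commuting with an element of
prime order. -/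
theorem card_order_modEq {p : ℕ} [Fact p.Prime] {x : G} (hx : orderOf x = p) (n : ℕ) :
    Nat.card {g : G // orderOf g = n} ≡ Nat.card {g : G // orderOf g = n ∧ g * x = x * g} [MOD p] := by
  classical
  letI : MulAction (zpowers x) {g : G // orderOf g = n} :=
    { smul := fun a g => ⟨(a : G) * g * (a : G)⁻¹, by rw [← MulAut.conj_apply, MulEquiv.orderOf_eq]; exact g.2⟩
      one_smul := fun g => Subtype.ext (show (1 : G) * (g : G) * (1 : G)⁻¹ = g by group)
      mul_smul := fun a b g => Subtype.ext
        (show (a : G) * b * g * ((a : G) * b)⁻¹ = a * (b * g * (b : G)⁻¹) * (a : G)⁻¹ by group) }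
  have hP : IsPGroup p (zpowers x) := IsPGroup.of_card (n := 1) (by rw [Nat.card_zpowers, hx, pow_one])
  have h := hP.card_modEq_card_fixedPoints {g : G // orderOf g = n}
  refine h.trans (Eq.trans (congrArg (fun k => k % p) (Nat.card_congr ?_)) rfl)
  refine ⟨fun g => ⟨g.1.1, g.1.2, ?_⟩, fun g => ⟨⟨g.1, g.2.1⟩, ?_⟩, fun g => rfl, fun g => rfl⟩
  · have h := congrArg Subtype.val (g.2 ⟨x, mem_zpowers x⟩)
    change x * g.1.1 * x⁻¹ = g.1.1 at h
    calc g.1.1 * x = x * g.1.1 * x⁻¹ * x := by rw [h]
      _ = x * g.1.1 := by group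
  · rintro ⟨a, ha⟩
    obtain ⟨k, rfl⟩ := mem_zpowers_iff.1 ha
    refine Subtype.ext ?_
    change x ^ k * g.1 * (x ^ k)⁻¹ = g.1
    rw [← ((show Commute g.1 x from g.2.2).zpow_right k).eq]
    group

end General

/-- The order of a code with a checked order. -/
theorem orderOf_ordCode {c : ℕ} (hc : isPermCode c = true) (h : ordOk c = true) :
    orderOf (permOf c) = ordCode c := by
  simp only [ordOk, Bool.and_eq_true, decide_eq_true_eq, beq_iff_eq, List.all_eq_true, List.mem_range,
    Bool.or_eq_true, Bool.not_eq_true', beq_eq_false_iff_ne] at h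
  obtain ⟨⟨h0, h1⟩, h2⟩ := h
  rw [orderOf_eq_iff h0]
  refine ⟨by rw [← (permOf_powCode hc _).1, h1, permOf_idPacked], fun m hm hm0 hp => ?_⟩
  refine (h2 m hm).resolve_left (by omega) ?_
  refine permOf_inj_normal (permOf_powCode hc m).2 (by decide +kernel) (permMulCode_idPacked_powCode hc m)
    (by decide +kernel) ?_
  rw [(permOf_powCode hc m).1, hp, permOf_idPacked]

/-- Counting by orders in a listed set of permutations. -/
theorem count_list {L : List ℕ} (hnd : L.Nodup)
    (hL : ∀ c ∈ L, isPermCode c = true ∧ permMulCode idPacked c = c ∧ ordOk c = true)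
    {P : Equiv.Perm GolayPt → Prop} (hP : ∀ g, P g ↔ ∃ c ∈ L, permOf c = g) (n : ℕ) :
    Nat.card {g : Equiv.Perm GolayPt // P g ∧ orderOf g = n} = (L.map ordCode).count n := by
  classical
  have hinj : Set.InjOn permOf {c | c ∈ L} := fun a ha b hb e =>
    permOf_inj_normal (hL a ha).1 (hL b hb).1 (hL a ha).2.1 (hL b hb).2.1 e
  have hnd' : (L.filter fun c => ordCode c == n).Nodup := hnd.filter _
  rw [show (L.map ordCode).count n = (L.filter fun c => ordCode c == n).length by
    rw [List.count_eq_countP, List.countP_map, List.countP_eq_length_filter]; rfl,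
    ← List.toFinset_card_of_nodup hnd',
    ← Finset.card_image_of_injOn (f := permOf) fun a ha b hb e =>
      hinj (List.mem_of_mem_filter (List.mem_toFinset.1 ha)) (List.mem_of_mem_filter (List.mem_toFinset.1 hb)) e]
  rw [Nat.card_eq_fintype_card, Fintype.card_subtype]
  congr 1
  ext g
  simp only [Finset.mem_filter, Finset.mem_univ, true_and, Finset.mem_image, List.mem_toFinset, List.mem_filter,
    beq_iff_eq, hP g]
  constructor
  · rintro ⟨⟨c, hc, rfl⟩, ho⟩
    exact ⟨c, ⟨hc, by rw [← orderOf_ordCode (hL c hc).1 (hL c hc).2.2, ho]⟩, rfl⟩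
  · rintro ⟨c, ⟨hc, ho⟩, rfl⟩
    exact ⟨⟨c, hc, rfl⟩, by rw [orderOf_ordCode (hL c hc).1 (hL c hc).2.2, ho]⟩

/-- The elements of `M24` of a given order commuting with `x` as permutations. -/
theorem card_comm_eq (x : M24) (n : ℕ) :
    Nat.card {g : M24 // orderOf g = n ∧ g * x = x * g} =
      Nat.card {g : Equiv.Perm GolayPt //
        (g ∈ M24 ∧ g * (x : Equiv.Perm GolayPt) = x * g) ∧ orderOf g = n} := by
  refine Nat.card_congr ⟨fun g => ⟨g.1, ⟨g.1.2, congrArg Subtype.val g.2.2⟩, ?_⟩,
    fun g => ⟨⟨g.1, g.2.1.1⟩, ?_, Subtype.ext g.2.1.2⟩, fun g => rfl, fun g => rfl⟩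
  · rw [Subgroup.orderOf_coe]; exact g.2.1
  · rw [← Subgroup.orderOf_coe]; exact g.2.2

/-! ### The prime five -/

/-- The element of order five in `M24`. -/
noncomputable def five : M24 :=
  ⟨permOf fiveElt, permOf_mem_M24 fiveElt_facts.1⟩

theorem orderOf_five : orderOf five = 5 := by
  rw [← Subgroup.orderOf_coe]
  show orderOf (permOf fiveElt) = 5
  rw [orderOf_ordCode (isPermCode_of_isM24Code fiveElt_facts.1) fiveElt_facts.2.2.1, fiveElt_facts.2.1]

theorem card_cent_five_le : Nat.card (centralizer ({five} : Set M24)) ≤ 60 := by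
  classical
  haveI : Fact (Nat.Prime 5) := ⟨by norm_num⟩
  set x : Equiv.Perm GolayPt := five.1 with hx
  have hxo : orderOf x = 5 := by rw [hx, Subgroup.orderOf_coe]; exact orderOf_five
  have hF4 : (fixSet x).card = 4 := PointSub.fix_card le_rfl (five : M24).2 hxo
  have hinv : ∀ c : centralizer ({five} : Set M24), ∀ q,
      ((c : M24) : Equiv.Perm GolayPt) q ∈ fixSet x ↔ q ∈ fixSet x := by
    intro c q
    have hc : ((c : M24) : Equiv.Perm GolayPt) * x = x * (c : M24) :=
      congrArg Subtype.val (mem_centralizer_singleton_iff.1 c.2)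
    rw [PointSub.mem_fixSet, PointSub.mem_fixSet, ← Equiv.Perm.mul_apply, ← hc, Equiv.Perm.mul_apply,
      EmbeddingLike.apply_eq_iff_eq]
  let φ : centralizer ({five} : Set M24) →* Equiv.Perm {q // q ∈ fixSet x} :=
    { toFun := fun c => ((c : M24) : Equiv.Perm GolayPt).subtypePerm (hinv c)
      map_one' := by ext q; rfl
      map_mul' := fun a b => by ext q; rfl }
  have hker : ∀ {q : ℕ}, q.Prime → q ∣ Nat.card φ.ker → q = 5 := by
    intro q hq hd
    by_contra hne
    haveI := Fact.mk hq
    obtain ⟨c, hc⟩ := exists_prime_orderOf_dvd_card' q hd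
    set d : Equiv.Perm GolayPt := (((c : centralizer ({five} : Set M24)) : M24) : Equiv.Perm GolayPt) with hd'
    have hdo : orderOf d = q := by
      rw [hd', Subgroup.orderOf_coe, Subgroup.orderOf_coe, Subgroup.orderOf_coe]; exact hc
    have hdM : d ∈ M24 := ((c : centralizer ({five} : Set M24)) : M24).2
    have hdx : d * x = x * d := congrArg Subtype.val (mem_centralizer_singleton_iff.1 (c : centralizer ({five} : Set M24)).2)
    have h24 : q ∣ 244823040 := by
      rw [← hdo]
      have := Subgroup.orderOf_dvd_natCard M24 hdM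
      rwa [card_M24] at this
    by_cases h23 : q = 2 ∨ q = 3
    · have h1 := PointSub.card_modEq (PointSub.pow_orderOf_self hxo) (fixSet d) fun r hr => by
        rw [PointSub.mem_fixSet] at hr ⊢
        rw [← Equiv.Perm.mul_apply, hdx, Equiv.Perm.mul_apply, hr]
      have hfix : PointSub.fixIn x (fixSet d) = fixSet x := by
        ext r
        simp only [PointSub.mem_fixIn, PointSub.mem_fixSet]
        refine ⟨fun h => h.2, fun h => ⟨?_, h⟩⟩
        have hc1 := DFunLike.congr_fun c.2 ⟨r, PointSub.mem_fixSet.2 h⟩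
        exact congrArg Subtype.val hc1
      rw [hfix, hF4] at h1
      have h2 := OneBlock.fix_mem hdM hdo
      rcases h23 with rfl | rfl <;> simp [OneBlock.fixOptions, -Finset.card_eq_zero] at h2 <;> omega
    · have := OneBlock.prime_dvd_card24 hq h24
      refine OneBlock.not_commute24 (p := 5) (q := q) ?_ (five : M24).2 hdM hxo hdo hdx
      simp only [List.mem_cons, List.not_mem_nil, or_false] at this
      rcases this with rfl | rfl | rfl | rfl | rfl | rfl <;> simp_all
  have hk5 : Nat.card φ.ker ≤ 5 := by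
    obtain ⟨m, hm⟩ : ∃ m, Nat.card φ.ker = 5 ^ m :=
      ⟨_, Nat.eq_prime_pow_of_unique_prime_dvd Nat.card_pos.ne' fun {q} hq hd => hker hq hd⟩
    have hd : Nat.card φ.ker ∣ 244823040 := by
      rw [← card_M24]
      exact (card_subgroup_dvd_card φ.ker).trans (card_subgroup_dvd_card _)
    rw [hm] at hd ⊢
    rcases Nat.lt_or_ge m 2 with h | h
    · exact le_trans (Nat.pow_le_pow_right (by norm_num) (show m ≤ 1 by omega)) (by norm_num)
    · exact absurd ((pow_dvd_pow 5 h).trans hd) (by norm_num)
  have hr : Nat.card φ.range ≤ 12 := by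
    have hS : Nat.card (Equiv.Perm {q // q ∈ fixSet x}) = 24 := by
      rw [Nat.card_perm, Nat.card_eq_fintype_card, Fintype.card_coe, hF4]; rfl
    have hd := card_subgroup_dvd_card φ.range
    rw [hS] at hd
    by_contra hlt
    have h24 : Nat.card φ.range = 24 := by
      have := Nat.le_of_dvd (by norm_num) hd
      obtain ⟨k, hk⟩ := hd
      rcases k with _ | _ | k
      · omega
      · omega
      · have : Nat.card φ.range * 2 ≤ Nat.card φ.range * (k + 1 + 1) := Nat.mul_le_mul_left _ (by omega)
        omega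
    have htop : φ.range = ⊤ := Subgroup.eq_top_of_card_eq _ (h24.trans hS.symm)
    obtain ⟨a, b, hab⟩ : ∃ a b : {q // q ∈ fixSet x}, a ≠ b :=
      Fintype.exists_pair_of_one_lt_card (by rw [Fintype.card_coe, hF4]; norm_num)
    obtain ⟨c, hc⟩ := (htop ▸ mem_top (Equiv.swap a b) : Equiv.swap a b ∈ φ.range)
    set d := c ^ 25 with hd25
    have hφd : φ d = Equiv.swap a b := by
      rw [hd25, map_pow, hc, show (25 : ℕ) = 2 * 12 + 1 from rfl, pow_succ, pow_mul, pow_two,
        Equiv.swap_mul_self, one_pow, one_mul]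
    have hker5 : ∀ w ∈ φ.ker, w ^ 5 = 1 := by
      intro w hw
      have h5 : Nat.card φ.ker ∣ 5 := by
        obtain ⟨m, hm⟩ : ∃ m, Nat.card φ.ker = 5 ^ m :=
          ⟨_, Nat.eq_prime_pow_of_unique_prime_dvd Nat.card_pos.ne' fun {q} hq hd => hker hq hd⟩
        rw [hm] at hk5 ⊢
        rcases m with _ | _ | m
        · norm_num
        · norm_num
        · have : 5 ^ 2 ≤ 5 ^ (m + 1 + 1) := Nat.pow_le_pow_right (by norm_num) (by omega)
          omega
      exact orderOf_dvd_iff_pow_eq_one.1 ((Subgroup.orderOf_dvd_natCard _ hw).trans h5)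
    have hd2 : d ^ 2 = 1 := by
      have hk : c ^ 10 ∈ φ.ker := by
        rw [MonoidHom.mem_ker, map_pow, hc, show (10 : ℕ) = 2 * 5 from rfl, pow_mul, pow_two,
          Equiv.swap_mul_self, one_pow]
      rw [hd25, ← pow_mul, show 25 * 2 = 10 * 5 from rfl, pow_mul, hker5 _ hk]
    set e : Equiv.Perm GolayPt := ((d : M24) : Equiv.Perm GolayPt) with he
    have heo : orderOf e = 2 := by
      haveI : Fact (Nat.Prime 2) := ⟨Nat.prime_two⟩
      rw [he, Subgroup.orderOf_coe, Subgroup.orderOf_coe]
      refine orderOf_eq_prime hd2 fun h1 => hab ?_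
      rw [h1, map_one] at hφd
      exact (Equiv.swap_eq_one_iff.1 hφd.symm)
    have hex : e * x = x * e := congrArg Subtype.val (mem_centralizer_singleton_iff.1 d.2)
    have h1 := PointSub.card_modEq (PointSub.pow_orderOf_self hxo) (fixSet e) fun r hr => by
      rw [PointSub.mem_fixSet] at hr ⊢
      rw [← Equiv.Perm.mul_apply, hex, Equiv.Perm.mul_apply, hr]
    have hfix : PointSub.fixIn x (fixSet e) =
        (((Finset.univ : Finset {q // q ∈ fixSet x}).erase a).erase b).map ⟨Subtype.val, Subtype.val_injective⟩ := by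
      ext r
      simp only [PointSub.mem_fixIn, PointSub.mem_fixSet, Finset.mem_map, Finset.mem_erase, Finset.mem_univ,
        and_true, Function.Embedding.coeFn_mk]
      constructor
      · rintro ⟨h2, h3⟩
        refine ⟨⟨r, PointSub.mem_fixSet.2 h3⟩, ?_, rfl⟩
        have hs : Equiv.swap a b ⟨r, PointSub.mem_fixSet.2 h3⟩ = ⟨r, PointSub.mem_fixSet.2 h3⟩ := by
          rw [← hφd]; exact Subtype.ext h2
        rw [Equiv.swap_apply_eq_iff] at hs
        refine ⟨fun hb => ?_, fun ha => ?_⟩
        · rw [hb, Equiv.swap_apply_right] at hs; exact hab hs.symm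
        · rw [ha, Equiv.swap_apply_left] at hs; exact hab hs
      · rintro ⟨⟨q, hq⟩, ⟨hb, ha⟩, rfl⟩
        refine ⟨?_, PointSub.mem_fixSet.1 hq⟩
        have hs := DFunLike.congr_fun hφd ⟨q, hq⟩
        rw [Equiv.swap_apply_of_ne_of_ne ha hb] at hs
        exact congrArg Subtype.val hs
    rw [hfix, Finset.card_map, Finset.card_erase_of_mem (Finset.mem_erase.2 ⟨hab.symm, Finset.mem_univ _⟩),
      Finset.card_erase_of_mem (Finset.mem_univ _), Finset.card_univ, Fintype.card_coe, hF4] at h1
    rcases two_fix (d : M24).2 (he ▸ heo) with h | h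
    · rw [he, h.2] at h1; omega
    · rw [he, h, Finset.card_empty] at h1; omega
  have h := φ.ker.card_mul_index
  rw [Subgroup.index_ker] at h
  rw [← h]
  calc Nat.card φ.ker * Nat.card φ.range ≤ 5 * 12 := Nat.mul_le_mul hk5 hr
    _ = 60 := by norm_num

theorem mem_fiveCent (g : Equiv.Perm GolayPt) :
    (g ∈ M24 ∧ g * permOf fiveElt = permOf fiveElt * g) ↔ ∃ c ∈ fiveCent, permOf c = g := by
  classical
  obtain ⟨hall, hnd, hlen⟩ := fiveCent_facts
  simp only [List.all_eq_true, Bool.and_eq_true, beq_iff_eq] at hall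
  have hp := isPermCode_of_isM24Code fiveElt_facts.1
  have hsub : ∀ c ∈ fiveCent, permOf c ∈ M24 ∧ permOf c * permOf fiveElt = permOf fiveElt * permOf c := by
    intro c hc
    refine ⟨permOf_mem_M24 (hall c hc).1.1.1, ?_⟩
    have h := (hall c hc).1.1.2
    have hcp := isPermCode_of_isM24Code (hall c hc).1.1.1
    simp only [commCodes, List.all_eq_true, List.mem_range, beq_iff_eq] at h
    ext q
    rw [← idxPt_ptIdx q, Equiv.Perm.mul_apply, Equiv.Perm.mul_apply, permOf_idxPt hp (ptIdx_lt q),
      permOf_idxPt hcp (ptIdx_lt q), permOf_idxPt hcp (permFn_lt hp (ptIdx_lt q)),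
      permOf_idxPt hp (permFn_lt hcp (ptIdx_lt q)), h _ (ptIdx_lt q)]
  refine ⟨fun hg => ?_, fun ⟨c, hc, e⟩ => e ▸ hsub c hc⟩
  set S : Finset (Equiv.Perm GolayPt) := Finset.univ.filter fun g => g ∈ M24 ∧
    g * permOf fiveElt = permOf fiveElt * g with hS
  have hle : S.card ≤ 60 := by
    refine le_trans (le_of_eq ?_) card_cent_five_le
    rw [hS, ← Fintype.card_subtype, ← Nat.card_eq_fintype_card]
    refine Nat.card_congr ⟨fun g => ⟨⟨g.1, g.2.1⟩, mem_centralizer_singleton_iff.2 (Subtype.ext g.2.2)⟩,
      fun g => ⟨g.1.1, g.1.2, congrArg Subtype.val (mem_centralizer_singleton_iff.1 g.2)⟩,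
      fun g => rfl, fun g => rfl⟩
  have himg : fiveCent.toFinset.image permOf = S := by
    refine Finset.eq_of_subset_of_card_le (fun g hg => ?_) ?_
    · obtain ⟨c, hc, rfl⟩ := Finset.mem_image.1 hg
      exact Finset.mem_filter.2 ⟨Finset.mem_univ _, hsub c (List.mem_toFinset.1 hc)⟩
    · rw [Finset.card_image_of_injOn, List.toFinset_card_of_nodup hnd, hlen]
      · exact hle
      · intro a ha b hb e
        exact permOf_inj_normal (isPermCode_of_isM24Code (hall a (List.mem_toFinset.1 ha)).1.1.1)
          (isPermCode_of_isM24Code (hall b (List.mem_toFinset.1 hb)).1.1.1)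
          (hall a (List.mem_toFinset.1 ha)).1.2 (hall b (List.mem_toFinset.1 hb)).1.2 e
  have : g ∈ S := Finset.mem_filter.2 ⟨Finset.mem_univ _, hg⟩
  rw [← himg, Finset.mem_image] at this
  obtain ⟨c, hc, e⟩ := this
  exact ⟨c, List.mem_toFinset.1 hc, e⟩

/-- The counts modulo five. -/
theorem residue_five (n : ℕ) :
    Nat.card {g : M24 // orderOf g = n} % 5 = (fiveCent.map ordCode).count n % 5 := by
  haveI : Fact (Nat.Prime 5) := ⟨by norm_num⟩
  have h := card_order_modEq orderOf_five n
  rw [card_comm_eq] at h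
  rw [← count_list fiveCent_facts.2.1 (fun c hc => ?_) mem_fiveCent n]
  · exact h
  · have := List.all_eq_true.1 fiveCent_facts.1 c hc
    simp only [Bool.and_eq_true, beq_iff_eq] at this
    exact ⟨isPermCode_of_isM24Code this.1.1.1, this.1.2, this.2⟩

/-! ### The prime seven -/

/-- The centralizer of `sevenElt` as codes. -/
def sevenCent : List ℕ := sevenNormList.filter fun c => commCodes c sevenElt

/-- The codes of `sevenCent`, in an order of their own. -/
def sevenCentList : List ℕ := [18922505992211508203912546275691575, 21159163873795149579542675899648055, 25081326860827433508475262756622391,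
  12263515072470444130584782561356855, 24157230415330192174409044413816887, 13607661605977442566926331316089911,
  20143464808467065239008229139518519, 13607482110020342981644453328602849, 21158442137671594033158266178228961,
  25080636068255820337454865782822625, 20143182553471857312672096385708769, 18922353720088144904022352227639009,
  12263690838867372927615275324087009, 24156670857824557801157036043983585, 45763950896251862461339421769025559,
  55956064898317182213051946733516823, 58620251531303722901276338801654807, 44586666182312118111820205299147799,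
  47272221196060775000064611033032727, 48120897400730216459582892135628823, 52088570830078114388480779619912727,
  45764184876728085339672394734973664, 44586183384723694274987196907149024, 47272378399718842726286114271468256,
  55955931205584001340642091863787232, 52088538636682338271384600478733024, 48120669626907781283034477864999648,
  58620573391632668970447656417140448, 984818244535754528103549039458486304, 977946142385489797270112026068388896,
  981614492469169817753814030018056224, 965377510518151442611474131300226080, 971799349892180104929502252480503840,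
  983339808445248740933005763180506144, 963477137655373525733333818777089056, 981614284474186628419626641436255233,
  965376994282680011806805025580468225, 963477091852149607020461795659331585, 984817554993026748674260808878246913,
  983339827007987602003814752704800769, 971799018108496905732798658381299713, 977945668253037487901050514404850689]

theorem sevenCentList_facts : sevenCentList.all (fun c => isM24Code c && commCodes c sevenElt &&
    (permMulCode idPacked c == c) && ordOk c) = true ∧ sevenCentList.Nodup ∧ sevenCentList.length = 42 := by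
  decide +kernel

theorem sevenCentList_orders : sevenCentList.map ordCode = [14, 2, 14, 14, 14, 14, 14, 21, 3, 21, 21, 21, 21, 21, 21,
    21, 21, 21, 21, 21, 3, 14, 14, 14, 14, 2, 14, 14, 1, 7, 7, 7, 7, 7, 7, 14, 14, 14, 2, 14, 14, 14] := by
  decide +kernel

/-- The centralizer is listed: it has 42 codes, and each code of the list is in it. -/
theorem sevenCent_perm : sevenCentList.Perm sevenCent := by
  obtain ⟨hall, hnd, hlen⟩ := sevenCentList_facts
  simp only [List.all_eq_true, Bool.and_eq_true, beq_iff_eq] at hall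
  have hp := isPermCode_of_isM24Code sevenElt_facts.1
  refine (List.subperm_of_subset hnd fun c hc => ?_).perm_of_length_le ?_
  · obtain ⟨⟨⟨hM, hcc⟩, hn⟩, -⟩ := hall c hc
    have hcp := isPermCode_of_isM24Code hM
    have hcomm : permOf c * permOf sevenElt = permOf sevenElt * permOf c := by
      simp only [commCodes, List.all_eq_true, List.mem_range, beq_iff_eq] at hcc
      ext q
      rw [← idxPt_ptIdx q, Equiv.Perm.mul_apply, Equiv.Perm.mul_apply, permOf_idxPt hp (ptIdx_lt q),
        permOf_idxPt hcp (ptIdx_lt q), permOf_idxPt hcp (permFn_lt hp (ptIdx_lt q)),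
        permOf_idxPt hp (permFn_lt hcp (ptIdx_lt q)), hcc _ (ptIdx_lt q)]
    obtain ⟨c', hc', e⟩ := mem_sevenNormList (permOf_mem_M24 hM) (by
      rw [hcomm, mul_inv_cancel_right]; exact mem_zpowers _)
    have hn' := List.all_eq_true.1 sevenNormList_facts.2.2.1 c' hc'
    simp only [Bool.and_eq_true, beq_iff_eq] at hn'
    obtain rfl := permOf_inj_normal (sevenNormList_spec hc').1 hcp hn'.1 hn e
    exact List.mem_filter.2 ⟨hc', commCodes_of hcp hp hcomm⟩
  · rw [hlen, sevenCent, sevenNormList_facts.2.2.2.1]

theorem sevenCent_count (n : ℕ) :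
    (sevenCent.map ordCode).count n = (sevenCentList.map ordCode).count n :=
  ((sevenCent_perm.map ordCode).count_eq n).symm

theorem sevenCent_facts : sevenCent.all (fun c => (permMulCode idPacked c == c) && ordOk c) = true ∧
    (sevenCent.map ordCode).count 1 = 1 ∧ (sevenCent.map ordCode).count 2 = 3 ∧
    (sevenCent.map ordCode).count 3 = 2 ∧ (sevenCent.map ordCode).count 7 = 6 ∧
    (sevenCent.map ordCode).count 14 = 18 ∧ (sevenCent.map ordCode).count 21 = 12 := by
  simp only [sevenCent_count, sevenCentList_orders]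
  refine ⟨List.all_eq_true.2 fun c hc => ?_, by decide⟩
  have h := List.all_eq_true.1 sevenCentList_facts.1 c (sevenCent_perm.mem_iff.2 hc)
  simp only [Bool.and_eq_true] at h ⊢
  exact ⟨h.1.2, h.2⟩

theorem residue_seven (n : ℕ) :
    Nat.card {g : M24 // orderOf g = n} % 7 = (sevenCent.map ordCode).count n % 7 := by
  classical
  haveI : Fact (Nat.Prime 7) := ⟨by norm_num⟩
  obtain ⟨hM, -, -, -, -⟩ := sevenElt_facts
  have hp := isPermCode_of_isM24Code hM
  set x : M24 := ⟨permOf sevenElt, permOf_mem_M24 hM⟩ with hx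
  have hxo : orderOf x = 7 := by rw [← Subgroup.orderOf_coe]; exact orderOf_sevenElt
  have h := card_order_modEq hxo n
  rw [card_comm_eq] at h
  have hall := sevenCent_facts.1
  simp only [List.all_eq_true, Bool.and_eq_true, beq_iff_eq] at hall
  have hpc : ∀ c ∈ sevenCent, isPermCode c = true := fun c hc => (sevenNormList_spec (List.mem_of_mem_filter hc)).1
  have hmem : ∀ g, (g ∈ M24 ∧ g * permOf sevenElt = permOf sevenElt * g) ↔ ∃ c ∈ sevenCent, permOf c = g := by
    intro g
    constructor
    · rintro ⟨hg, hc⟩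
      obtain ⟨c, hcm, rfl⟩ := mem_sevenNormList hg (by
        rw [show g * permOf sevenElt * g⁻¹ = permOf sevenElt by rw [hc]; group]
        exact mem_zpowers _)
      exact ⟨c, List.mem_filter.2 ⟨hcm, commCodes_of (sevenNormList_spec hcm).1 hp hc⟩, rfl⟩
    · rintro ⟨c, hc, rfl⟩
      obtain ⟨hcm, hcc⟩ := List.mem_filter.1 hc
      obtain ⟨hcp, hcM, -, -⟩ := sevenNormList_spec hcm
      refine ⟨hcM, ?_⟩
      simp only [commCodes, List.all_eq_true, List.mem_range, beq_iff_eq] at hcc
      ext q
      rw [← idxPt_ptIdx q, Equiv.Perm.mul_apply, Equiv.Perm.mul_apply, permOf_idxPt hp (ptIdx_lt q),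
        permOf_idxPt hcp (ptIdx_lt q), permOf_idxPt hcp (permFn_lt hp (ptIdx_lt q)),
        permOf_idxPt hp (permFn_lt hcp (ptIdx_lt q)), hcc _ (ptIdx_lt q)]
  rw [sevenCent, ← count_list (sevenNormList_facts.2.1.filter _) (fun c hc => ⟨hpc c hc, (hall c hc).1, (hall c hc).2⟩)
    hmem n]
  exact h

/-! ### The primes 11 and 23 -/

theorem residue_big {p : ℕ} [Fact p.Prime] (hp : p ∈ [11, 23]) (n : ℕ) :
    Nat.card {g : M24 // orderOf g = n} % p = (if n = 1 then 1 else if n = p then p - 1 else 0) % p := by
  classical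
  obtain ⟨x, hx⟩ := exists_prime_orderOf_dvd_card' (G := M24) p
    (by rw [card_M24]; fin_cases hp <;> norm_num)
  refine Eq.trans (card_order_modEq hx n) ?_
  congr 1
  have hC := OneBlock.centralizer_card24 hp hx
  have hC' : centralizer ({x} : Set M24) = zpowers x :=
    (eq_of_le_of_card_ge (zpowers_le.2 (mem_centralizer_singleton_iff.2 rfl))
      (by rw [hC, Nat.card_zpowers, hx])).symm
  rw [Nat.card_congr (Equiv.subtypeEquivRight (q := fun g => g ∈ zpowers x ∧ orderOf g = n) fun g =>
    ⟨fun h => ⟨hC' ▸ mem_centralizer_singleton_iff.2 h.2, h.1⟩,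
      fun h => ⟨h.2, mem_centralizer_singleton_iff.1 (hC' ▸ h.1)⟩⟩)]
  haveI := Fintype.ofFinite M24
  rw [Nat.card_eq_fintype_card, Fintype.card_subtype]
  have hzc : ((Finset.univ : Finset M24).filter (· ∈ zpowers x)).card = p := by
    rw [← Fintype.card_subtype, ← Nat.card_eq_fintype_card]
    exact (Nat.card_zpowers x).trans hx
  have hord : ∀ g ∈ zpowers x, g ≠ 1 → orderOf g = p := fun g hg h1 => by
    have hd := Subgroup.orderOf_dvd_natCard _ hg
    rw [Nat.card_zpowers, hx] at hd
    exact ((Nat.dvd_prime Fact.out).1 hd).resolve_left fun e => h1 (orderOf_eq_one_iff.1 e)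
  split_ifs with h1 hnp
  · rw [Finset.card_eq_one]
    refine ⟨1, ?_⟩
    ext g
    simp only [Finset.mem_filter, Finset.mem_univ, true_and, Finset.mem_singleton, h1, orderOf_eq_one_iff]
    exact ⟨fun h => h.2, fun h => ⟨h ▸ one_mem _, h⟩⟩
  · have : (Finset.univ : Finset M24).filter (fun g => g ∈ zpowers x ∧ orderOf g = n) =
        ((Finset.univ : Finset M24).filter (· ∈ zpowers x)).erase 1 := by
      ext g
      simp only [Finset.mem_filter, Finset.mem_univ, true_and, Finset.mem_erase]
      refine ⟨fun h => ⟨fun e => h1 ?_, h.1⟩, fun h => ⟨h.2, hnp ▸ hord g h.2 h.1⟩⟩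
      rw [← h.2, e, orderOf_one]
    rw [this, Finset.card_erase_of_mem (Finset.mem_filter.2 ⟨Finset.mem_univ _, one_mem _⟩), hzc]
  · rw [Finset.card_eq_zero]
    refine Finset.filter_eq_empty_iff.2 fun g _ hg => ?_
    rcases eq_or_ne g 1 with rfl | hg1
    · exact h1 (hg.2 ▸ orderOf_one)
    · exact hnp (hg.2 ▸ hord g hg.1 hg1)

end CfsgLib.Char.MTwentyFourOrder
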