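import Cfsg.Agent.Lib.Char.MTwentyThreeNse

/-!
# A group of order 244823040 with 967680 Sylow 23-subgroups is simple
-/

set_option autoImplicit false
set_option linter.all false

open Subgroup

namespace CfsgLib.Char.MTwentyFourOrder


universe u

variable {G : Type u} [Group G] [Finite G]

theorem sylow_card_big (h : Nat.card G = 244823040) {p : ℕ} [Fact p.Prime] (hp : p ∈ [5, 7, 11, 23])
    (S : Sylow p G) : Nat.card (S : Subgroup G) = p := by
  rw [S.card_eq_multiplicity, h]
  suffices hf : (244823040 : ℕ).factorization p = 1 by rw [hf, pow_one]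
  rw [Nat.factorization_def _ Fact.out]
  fin_cases hp <;> decide +kernel

/-- A subgroup of order prime to eleven normalised by a Sylow subgroup with normaliser of order 253. -/
theorem invariant_dvd_eleven (P : Subgroup G) (hP : Nat.card P = 23)
    (hN : Nat.card (normalizer (P : Set G)) = 253) (M : Subgroup G) (hn : P ≤ normalizer (M : Set G))
    (hM : Nat.card M ∣ 10644480) : Nat.card M ∣ 11 := by
  have h23 : ¬ 23 ∣ Nat.card M := fun hd => by have := hd.trans hM; norm_num at this
  have hpart : ∀ (q b : ℕ), q.Prime → q ≠ 11 → (∀ k ≤ b, q ^ k % 23 = 1 → k = 0) →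
      (10644480 : ℕ).factorization q ≤ b → (Nat.card M).factorization q = 0 := by
    intro q b hq hq11 hb hb'
    haveI : Fact q.Prime := ⟨hq⟩
    haveI : Fact (Nat.Prime 23) := ⟨by norm_num⟩
    obtain ⟨R, hRM, hRn, hRc⟩ := CfsgLib.Char.MTwentyThreeNse.exists_invariant hP hn h23 q
    refine hb _ (le_trans ((Nat.factorization_le_iff_dvd (Nat.card_pos).ne' (by norm_num)).2 hM q) hb') ?_
    rw [← hRc]
    refine CfsgLib.Char.MTwentyThreeNse.free_mod hP hRn fun m hm hc => ?_
    have h253 := Subgroup.orderOf_dvd_natCard _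
      (centralizer_le_normalizer _ (mem_centralizer_iff.2 hc) : m ∈ normalizer (P : Set G))
    rw [hN] at h253
    have hqp := Subgroup.orderOf_dvd_natCard _ hm
    rw [hRc] at hqp
    obtain ⟨j, -, hj⟩ := (Nat.dvd_prime_pow hq).1 hqp
    rcases Nat.eq_zero_or_pos j with rfl | hj0
    · rwa [pow_zero, orderOf_eq_one_iff] at hj
    exfalso
    have hd : q ∣ 253 := (dvd_pow_self q hj0.ne').trans (hj ▸ h253)
    have hq' : q ∣ Nat.card M := (dvd_pow_self q hj0.ne').trans (hj ▸ Subgroup.orderOf_dvd_natCard _ (hRM hm))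
    rcases hq.dvd_mul.1 (show q ∣ 11 * 23 from hd) with e | e
    · exact hq11 ((Nat.prime_dvd_prime_iff_eq hq (by norm_num)).1 e)
    · exact h23 (((Nat.prime_dvd_prime_iff_eq hq (by norm_num)).1 e) ▸ hq')
  have h2 := hpart 2 10 Nat.prime_two (by norm_num) (by decide) (by decide +kernel)
  have h3 := hpart 3 3 Nat.prime_three (by norm_num) (by decide) (by decide +kernel)
  have h5 := hpart 5 1 (by norm_num) (by norm_num) (by decide) (by decide +kernel)
  have h7 := hpart 7 1 (by norm_num) (by norm_num) (by decide) (by decide +kernel)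
  have n5 : ¬ 5 ∣ Nat.card M := fun hd =>
    absurd h5 ((by norm_num : Nat.Prime 5).factorization_pos_of_dvd Nat.card_pos.ne' hd).ne'
  have n2 : ¬ 2 ∣ Nat.card M := fun hd =>
    absurd h2 (Nat.prime_two.factorization_pos_of_dvd Nat.card_pos.ne' hd).ne'
  have n3 : ¬ 3 ∣ Nat.card M := fun hd =>
    absurd h3 (Nat.prime_three.factorization_pos_of_dvd Nat.card_pos.ne' hd).ne'
  have n7 : ¬ 7 ∣ Nat.card M := fun hd =>
    absurd h7 ((by norm_num : Nat.Prime 7).factorization_pos_of_dvd Nat.card_pos.ne' hd).ne'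
  exact (Nat.Coprime.mul_right (Nat.Coprime.mul_right
    (Nat.Coprime.mul_right ((Nat.prime_two.coprime_iff_not_dvd.2 n2).symm.pow_right 10)
    ((Nat.prime_three.coprime_iff_not_dvd.2 n3).symm.pow_right 3))
    ((by norm_num : Nat.Prime 5).coprime_iff_not_dvd.2 n5).symm)
    ((by norm_num : Nat.Prime 7).coprime_iff_not_dvd.2 n7).symm).dvd_of_dvd_mul_left
      (show Nat.card M ∣ (2 ^ 10 * 3 ^ 3 * 5 * 7) * 11 from hM)

/-- No normal complement to a self-centralizing Sylow subgroup. -/
theorem not_complement (P : Subgroup G) (hP : Nat.card P = 23)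
    (hN : Nat.card (normalizer (P : Set G)) = 253) (H : Subgroup G) [Fact (Nat.Prime 23)]
    (S : Sylow 23 H) (hS : (S : Subgroup H).map H.subtype = P)
    (hle : normalizer ((S : Subgroup H) : Set H) ≤ centralizer ((S : Subgroup H) : Set H))
    {k : ℕ} (hk : k ∣ 10644480) (hk11 : 11 < k) (hH : Nat.card H = 23 * k) : False := by
  obtain ⟨K, hKn, hKc'⟩ : ∃ K : Subgroup H, K.Normal ∧ Nat.card K = k := by
    refine ⟨(MonoidHom.transferSylow S hle).ker, MonoidHom.normal_ker _, ?_⟩
    have h1 := (MonoidHom.ker_transferSylow_isComplement' S hle).card_mul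
    have hSc := hP
    rw [← hS, card_map_of_injective H.subtype_injective] at hSc
    rw [hSc, hH] at h1
    omega
  haveI := hKn
  have hKc : Nat.card (K.map H.subtype) = k := by
    rw [card_map_of_injective H.subtype_injective, hKc']
  have hPH : P ≤ H := hS ▸ map_subtype_le _
  have hn : P ≤ normalizer ((K.map H.subtype : Subgroup G) : Set G) := by
    intro p hp
    refine mem_normalizer_iff.2 fun x => ⟨?_, ?_⟩
    · rintro ⟨c, hc, rfl⟩
      exact ⟨⟨p, hPH hp⟩ * c * ⟨p, hPH hp⟩⁻¹, Subgroup.Normal.conj_mem inferInstance c hc _, rfl⟩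
    · rintro ⟨c, hc, e⟩
      refine ⟨⟨p, hPH hp⟩⁻¹ * c * ⟨p, hPH hp⟩⁻¹⁻¹, Subgroup.Normal.conj_mem inferInstance c hc _, ?_⟩
      show p⁻¹ * (c : G) * p⁻¹⁻¹ = x
      rw [show (c : G) = p * x * p⁻¹ from e]
      group
  have h11 := Nat.le_of_dvd (by norm_num) (invariant_dvd_eleven P hP hN _ hn (hKc ▸ hk))
  omega

/-- Simplicity. -/
theorem simple_of_twentythree (h : Nat.card G = 244823040) [Fact (Nat.Prime 23)]
    (h23 : Nat.card (Sylow 23 G) = 967680) : IsSimpleGroup G := by
  classical
  haveI : Nontrivial G := Finite.one_lt_card_iff_nontrivial.1 (by rw [h]; norm_num)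
  obtain ⟨P⟩ : Nonempty (Sylow 23 G) := inferInstance
  have hP := sylow_card_big h (by simp) P
  have hN : Nat.card (normalizer ((P : Subgroup G) : Set G)) = 253 := by
    have e := card_mul_index (normalizer ((P : Subgroup G) : Set G))
    rw [show (normalizer ((P : Subgroup G) : Set G)).index = Nat.card (Sylow 23 G) from
      P.card_eq_index_normalizer.symm, h23, h] at e
    omega
  refine ⟨fun N hNn => or_iff_not_imp_left.2 fun hbot => ?_⟩
  haveI := hNn
  have hN1 : 1 < Nat.card N := (Subgroup.one_lt_card_iff_ne_bot N).2 hbot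
  have hNd : Nat.card N ∣ 244823040 := h ▸ card_subgroup_dvd_card N
  by_cases h23N : 23 ∣ Nat.card N
  · have hPN : (P : Subgroup G) ≤ N := by
      obtain ⟨y, hy⟩ := exists_prime_orderOf_dvd_card' (G := N) 23 h23N
      obtain ⟨S, hS⟩ := (IsPGroup.of_card (p := 23) (n := 1) (G := zpowers (y : G))
        (by rw [Nat.card_zpowers, Subgroup.orderOf_coe, hy, pow_one])).exists_le_sylow
      have hSe : zpowers (y : G) = (S : Subgroup G) :=
        eq_of_le_of_card_ge hS (by rw [sylow_card_big h (by simp), Nat.card_zpowers, Subgroup.orderOf_coe, hy])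
      obtain ⟨g, rfl⟩ := MulAction.exists_smul_eq G S P
      rintro _ ⟨s, hs, rfl⟩
      exact hNn.conj_mem _ ((hSe ▸ zpowers_le.2 y.2 : (S : Subgroup G) ≤ N) hs) g
    by_contra htop
    have hidx : N.index ∣ 253 := by
      have hsup : normalizer ((P : Sylow 23 G) : Set G) ⊔ N = ⊤ := by
        have h1 := Sylow.normalizer_sup_eq_top (P.subtype hPN)
        rw [Sylow.coe_subtype, Subgroup.map_subgroupOf_eq_of_le hPN] at h1
        exact h1
      rw [← relIndex_top_right N, ← hsup, sup_comm, Subgroup.relIndex_sup_left]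
      exact (relIndex_dvd_card N (normalizer ((P : Sylow 23 G) : Set G))).trans hN.dvd
    have hNc : Nat.card N = 22256640 := by
      have e := N.card_mul_index
      rw [h] at e
      obtain ⟨a, ha⟩ := h23N
      have h253 : ∀ i < 254, i ∣ 253 → i = 1 ∨ i = 11 ∨ i = 23 ∨ i = 253 := by decide +kernel
      rcases h253 _ (Nat.lt_succ_of_le (Nat.le_of_dvd (by norm_num) hidx)) hidx with d | d | d | d
      · exact absurd (index_eq_one.1 d) htop
      · rw [d] at e; omega
      · rw [ha, d] at e; omega
      · rw [ha, d] at e; omega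
    have hmap : ((P.subtype hPN : Sylow 23 N) : Subgroup N).map N.subtype = (P : Subgroup G) := by
      rw [Sylow.coe_subtype, Subgroup.map_subgroupOf_eq_of_le hPN]
    set PN : Sylow 23 N := P.subtype hPN
    have hPNc : Nat.card (PN : Subgroup N) = 23 := by
      rw [← card_map_of_injective (f := N.subtype) N.subtype_injective, hmap, hP]
    refine not_complement _ hP hN N PN hmap ?_ (k := 967680) (by norm_num) (by norm_num) (by omega)
    have hd : Nat.card (normalizer ((PN : Subgroup N) : Set N)) ∣ 253 := by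
      rw [← hN, ← card_map_of_injective (f := N.subtype) N.subtype_injective]
      refine card_dvd_of_le ?_
      rintro _ ⟨n, hn, rfl⟩
      refine mem_normalizer_iff.2 fun x => ⟨fun hx => ?_, fun hx => ?_⟩
      · exact ((mem_normalizer_iff.1 hn ⟨x, hPN hx⟩).1 hx :)
      · have hxN : x ∈ N := by
          have h1 := N.mul_mem (N.mul_mem (N.inv_mem n.2) (hPN hx)) n.2
          simpa [mul_assoc] using h1
        exact ((mem_normalizer_iff.1 hn ⟨x, hxN⟩).2 hx :)
    have hd2 : Nat.card (normalizer ((PN : Subgroup N) : Set N)) ∣ 23 := by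
      have h1 : Nat.card (normalizer ((PN : Subgroup N) : Set N)) ∣ 22256640 := hNc ▸ card_subgroup_dvd_card _
      have h2 := Nat.dvd_gcd hd h1
      simpa using h2
    have he : normalizer ((PN : Subgroup N) : Set N) = (PN : Subgroup N) :=
      (eq_of_le_of_card_ge le_normalizer (by rw [hPNc]; exact Nat.le_of_dvd (by norm_num) hd2)).symm
    rw [he]
    haveI : IsMulCommutative (PN : Subgroup N) := (isCyclic_of_prime_card hPNc).isMulCommutative
    exact le_centralizer _
  · exfalso
    have hN8 : Nat.card N ∣ 10644480 :=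
      ((by norm_num : Nat.Prime 23).coprime_iff_not_dvd.2 h23N).symm.dvd_of_dvd_mul_left
        (show Nat.card N ∣ 23 * 10644480 from hNd)
    have hnorm : (P : Subgroup G) ≤ normalizer (N : Set G) := normalizer_eq_top (H := N) ▸ le_top
    have h11 : Nat.card N = 11 := by
      rcases (Nat.dvd_prime (by norm_num : Nat.Prime 11)).1 (invariant_dvd_eleven _ hP hN N hnorm hN8) with e | e
      · omega
      · exact e
    obtain ⟨m, hmN, hmc, hm1⟩ : ∃ m ∈ N, (∀ p ∈ (P : Subgroup G), p * m = m * p) ∧ m ≠ 1 := by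
      by_contra hno
      push Not at hno
      have := CfsgLib.Char.MTwentyThreeNse.free_mod hP hnorm hno
      rw [h11] at this
      norm_num at this
    haveI : Fact (Nat.Prime 11) := ⟨by norm_num⟩
    have hm11 : orderOf m = 11 := by
      rcases (Nat.dvd_prime (by norm_num : Nat.Prime 11)).1 (h11 ▸ Subgroup.orderOf_dvd_natCard N hmN) with e | e
      · exact absurd (orderOf_eq_one_iff.1 e) hm1
      · exact e
    set C := centralizer ((P : Subgroup G) : Set G)
    haveI : IsMulCommutative (P : Subgroup G) := (isCyclic_of_prime_card hP).isMulCommutative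
    have hC253 : Nat.card C = 253 := by
      refine Nat.dvd_antisymm (hN ▸ card_dvd_of_le (centralizer_le_normalizer _)) ?_
      refine Nat.Coprime.mul_dvd_of_dvd_of_dvd (m := 23) (n := 11) (by norm_num) ?_ ?_
      · exact hP ▸ card_dvd_of_le (le_centralizer _)
      · exact hm11 ▸ Subgroup.orderOf_dvd_natCard C (mem_centralizer_iff.2 hmc)
    have hle : normalizer ((P : Subgroup G) : Set G) ≤ C :=
      (eq_of_le_of_card_ge (centralizer_le_normalizer _) (by rw [hN, hC253])).ge
    obtain ⟨K, hKn, hK⟩ : ∃ K : Subgroup G, K.Normal ∧ Nat.card K = 10644480 := by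
      refine ⟨(MonoidHom.transferSylow P hle).ker, MonoidHom.normal_ker _, ?_⟩
      have h1 := (MonoidHom.ker_transferSylow_isComplement' P hle).card_mul
      rw [hP, h] at h1
      omega
    haveI := hKn
    have := invariant_dvd_eleven _ hP hN K (normalizer_eq_top (H := K) ▸ le_top) (hK ▸ dvd_rfl)
    rw [hK] at this
    norm_num at this

end CfsgLib.Char.MTwentyFourOrder
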