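import Cfsg.Agent.Lib.Char.MTwentyFourOrder.Params
import Cfsg.Agent.Lib.Char.MTwentyFourOrder.Shapes
import Cfsg.Agent.Lib.Char.MTwentyFourOrder.Nse.Profile
import Cfsg.Agent.Lib.Char.MTwentyFourOrder.Nse.Simple
import Cfsg.Agent.Lib.Char.MTwentyFourOrder.Nse.Local

/-!
# A group with the order and the numbers of elements of each order of `Cfsg.M24`: simplicity and local data
-/

set_option autoImplicit false
set_option linter.all false

open Subgroup Cfsg

namespace CfsgLib.Char.MTwentyFourOrder

open CfsgLib.Char.MEleven.Order (card_order_prime)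

universe u

/-- The set of the numbers of elements of each order is that of `Cfsg.M24`. -/
def SameNse (G : Type u) [Group G] : Prop :=
  {c : ℕ | 0 < c ∧ ∃ n : ℕ, c = Nat.card {g : G // orderOf g = n}} =
    {c : ℕ | 0 < c ∧ ∃ n : ℕ, c = Nat.card {g : ↥Cfsg.M24 // orderOf g = n}}

section General

variable {G : Type u} [Group G] [Finite G]

theorem card_normalizer_dvd {p : ℕ} [hp : Fact p.Prime] {a : G} (ha : orderOf a = p) :
    Nat.card (normalizer (zpowers a : Set G)) ∣ Nat.card (centralizer ({a} : Set G)) * (p - 1) ∧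
      centralizer ({a} : Set G) ≤ normalizer (zpowers a : Set G) := by
  have hce : centralizer ({a} : Set G) = centralizer (zpowers a : Set G) := by
    ext y
    rw [mem_centralizer_singleton_iff, mem_centralizer_iff]
    refine ⟨fun h u hu => ?_, fun h => (h a (mem_zpowers a)).symm⟩
    obtain ⟨j, rfl⟩ := mem_zpowers_iff.1 hu
    exact ((show Commute y a from h).zpow_right j).eq.symm
  refine ⟨?_, hce ▸ centralizer_le_normalizer _⟩
  have hcard : Nat.card (zpowers a) = p := by rw [Nat.card_zpowers, ha]
  haveI : IsCyclic (zpowers a) := isCyclic_of_prime_card hcard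
  let φ := (zpowers a).normalizerMonoidHom
  have h1 := Subgroup.card_mul_index φ.ker
  rw [Subgroup.index_ker] at h1
  rw [← h1]
  refine mul_dvd_mul (dvd_of_eq ?_) ((Subgroup.card_subgroup_dvd_card φ.range).trans (dvd_of_eq ?_))
  · rw [Subgroup.normalizerMonoidHom_ker, hce]
    exact Nat.card_congr (Subgroup.subgroupOfEquivOfLe (Subgroup.centralizer_le_normalizer _)).toEquiv
  · rw [IsCyclic.card_mulAut, hcard, Nat.totient_prime hp.out]

/-- The elements of a given order commuting with an element are those of that order in its centralizer. -/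
theorem card_comm_cent (a : G) (n : ℕ) :
    Nat.card {g : G // orderOf g = n ∧ g * a = a * g} =
      Nat.card {t : centralizer ({a} : Set G) // orderOf t = n} :=
  Nat.card_congr ⟨fun g => ⟨⟨g.1, mem_centralizer_singleton_iff.2 g.2.2⟩, (orderOf_mk _ _).trans g.2.1⟩,
    fun t => ⟨t.1.1, (Subgroup.orderOf_coe t.1).trans t.2, mem_centralizer_singleton_iff.1 t.1.2⟩,
    fun _ => rfl, fun _ => rfl⟩

theorem self_central (a : G) (c : centralizer ({a} : Set G)) :
    Commute c ⟨a, mem_centralizer_singleton_iff.2 rfl⟩ :=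
  Subtype.ext (mem_centralizer_singleton_iff.1 c.2)

/-- The number of elements of an order at least three is even. -/
theorem even_count {n : ℕ} (hn : 3 ≤ n) : 2 ∣ Nat.card {g : G // orderOf g = n} := by
  classical
  haveI := Fintype.ofFinite {g : G // orderOf g = n}
  rw [Nat.card_eq_fintype_card, ← ZMod.natCast_eq_zero_iff, ← Finset.card_univ, Finset.card_eq_sum_ones,
    Nat.cast_sum]
  refine Finset.sum_involution (fun g _ => (⟨g.1⁻¹, by rw [orderOf_inv]; exact g.2⟩ : {g : G // orderOf g = n}))
    (fun g _ => show (1 : ZMod 2) + 1 = 0 by decide) (fun g _ _ e => ?_) (fun g _ => Finset.mem_univ _) (fun g _ => Subtype.ext (inv_inv _))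
  have h1 : g.1⁻¹ = g.1 := congrArg Subtype.val e
  have h2 : g.1 ^ 2 = 1 := by rw [pow_two]; nth_rewrite 1 [← h1]; exact inv_mul_cancel _
  have h3 := Nat.le_of_dvd (by norm_num) (orderOf_dvd_of_pow_eq_one h2)
  have := g.2
  omega

end General

/-- A count with a residue of a listed profile. -/
theorem count_residue {L : List ℕ} {p r n : ℕ} {n0 : ℕ} (hr : r ≠ 0)
    (hL : L.all (fun m => !(decide (L.count m % p = r)) || decide (m = n0)) = true) (h : L.count n % p = r) :
    n = n0 := by
  by_cases hn : n ∈ L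
  · have := List.all_eq_true.1 hL n hn
    simpa [h] using this
  · rw [List.count_eq_zero.2 hn, Nat.zero_mod] at h
    exact absurd h.symm hr

theorem fiveCent_ordList : fiveCent.map ordCode = [3, 2, 3, 3, 2, 3, 2, 3, 3, 3, 3, 1, 15, 10, 15, 15, 10, 15, 10, 15, 15, 15,
    15, 5, 15, 10, 15, 15, 10, 15, 10, 15, 15, 15, 15, 5, 15, 10, 15, 15, 10, 15, 10, 15, 15, 15, 15, 5, 15, 10, 15, 15,
    10, 15, 10, 15, 15, 15, 15, 5] := by decide +kernel

theorem profiles :
    (fiveCent.map ordCode).all (fun m => !(decide ((fiveCent.map ordCode).count m % 5 = 4)) || decide (m = 5)) = true ∧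
    (sevenCent.map ordCode).all (fun m => !(decide ((sevenCent.map ordCode).count m % 7 = 6)) || decide (m = 7)) = true ∧
    (sevenCent.map ordCode).all (fun m => !(decide ((sevenCent.map ordCode).count m % 7 = 2)) || decide (m = 3)) =
      true := by
  simp only [fiveCent_ordList, sevenCent_count]
  rw [(sevenCent_perm.map ordCode).symm.all_eq, (sevenCent_perm.map ordCode).symm.all_eq, sevenCentList_orders]
  decide +kernel

theorem card_cent_five : Nat.card (centralizer ({five} : Set M24)) = 60 := by
  classical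
  refine le_antisymm card_cent_five_le ?_
  obtain ⟨hall, hnd, hlen⟩ := fiveCent_facts
  simp only [List.all_eq_true, Bool.and_eq_true, beq_iff_eq] at hall
  have hm : ∀ c : {c // c ∈ fiveCent.toFinset}, CfsgLib.Spor.permOf c.1 ∈ M24 ∧
      CfsgLib.Spor.permOf c.1 * CfsgLib.Spor.permOf fiveElt = CfsgLib.Spor.permOf fiveElt * CfsgLib.Spor.permOf c.1 :=
    fun c => (mem_fiveCent _).2 ⟨c.1, List.mem_toFinset.1 c.2, rfl⟩
  let f : {c // c ∈ fiveCent.toFinset} → centralizer ({five} : Set M24) := fun c =>
    ⟨⟨CfsgLib.Spor.permOf c.1, (hm c).1⟩, mem_centralizer_singleton_iff.2 (Subtype.ext (hm c).2)⟩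
  have hf : Function.Injective f := fun a b e => by
    have ha := hall a.1 (List.mem_toFinset.1 a.2)
    have hb := hall b.1 (List.mem_toFinset.1 b.2)
    exact Subtype.ext (CfsgLib.Spor.permOf_inj_normal (CfsgLib.Spor.isPermCode_of_isM24Code ha.1.1.1)
      (CfsgLib.Spor.isPermCode_of_isM24Code hb.1.1.1) ha.1.2 hb.1.2 (congrArg (fun t => t.1.1) e))
  have := Nat.card_le_card_of_injective f hf
  rw [Nat.card_eq_fintype_card, Fintype.card_coe, List.toFinset_card_of_nodup hnd, hlen] at this
  exact this

/-- The Sylow numbers of `Cfsg.M24`. -/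
theorem sylow_numbers :
    Nat.card (Sylow 23 M24) = 967680 ∧ Nat.card (Sylow 11 M24) = 2225664 ∧
      Nat.card (Sylow 7 M24) = 1943040 ∧ Nat.card (Sylow 5 M24) = 1020096 := by
  haveI : Fact (Nat.Prime 23) := ⟨by norm_num⟩
  haveI : Fact (Nat.Prime 11) := ⟨by norm_num⟩
  haveI : Fact (Nat.Prime 7) := ⟨by norm_num⟩
  haveI : Fact (Nat.Prime 5) := ⟨by norm_num⟩
  refine ⟨(CfsgLib.Spor.OneBlock.sylow_numbers24 (p := 23) (by simp)).2 rfl,
    (CfsgLib.Spor.OneBlock.sylow_numbers24 (p := 11) (by simp)).1 rfl, ?_, ?_⟩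
  · obtain ⟨S⟩ : Nonempty (Sylow 7 M24) := inferInstance
    have hS := sylow_card_big CfsgLib.Spor.card_M24 (p := 7) (by simp) S
    have h := index_mul_card (normalizer ((S : Subgroup M24) : Set M24))
    have e : (normalizer ((S : Subgroup M24) : Set M24)).index = Nat.card (Sylow 7 M24) :=
      S.card_eq_index_normalizer.symm
    rw [e, (CfsgLib.Spor.sylow_seven _ hS).1, CfsgLib.Spor.card_M24] at h
    omega
  · obtain ⟨S, hS⟩ := (IsPGroup.of_card (p := 5) (n := 1) (G := zpowers five)
      (by rw [Nat.card_zpowers, orderOf_five, pow_one])).exists_le_sylow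
    have hSe : zpowers five = (S : Subgroup M24) := eq_of_le_of_card_ge hS
      (by rw [sylow_card_big CfsgLib.Spor.card_M24 (by simp) S, Nat.card_zpowers, orderOf_five])
    obtain ⟨hd, hle⟩ := card_normalizer_dvd orderOf_five
    have h := index_mul_card (normalizer (zpowers five : Set M24))
    have h60 : 60 ∣ Nat.card (normalizer (zpowers five : Set M24)) := card_cent_five ▸ card_dvd_of_le hle
    have hidx : (normalizer (zpowers five : Set M24)).index = Nat.card (Sylow 5 M24) := by
      rw [hSe]; exact S.card_eq_index_normalizer.symm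
    have hmod : Nat.card (Sylow 5 M24) % 5 = 1 := card_sylow_modEq_one 5 M24
    rw [card_cent_five] at hd
    rw [hidx, CfsgLib.Spor.card_M24] at h
    obtain ⟨j, hj⟩ := h60
    rw [hj] at hd h
    have hj4 : j ∣ 4 := Nat.dvd_of_mul_dvd_mul_left (by norm_num : 0 < 60) hd
    have := Nat.le_of_dvd (by norm_num) hj4
    interval_cases j <;> omega

variable {G : Type u} [Group G] [Finite G]

theorem exists_count (hs : SameNse G) {n : ℕ} (hpos : 0 < Nat.card {g : G // orderOf g = n}) :
    ∃ m, Nat.card {g : G // orderOf g = n} = Nat.card {g : ↥Cfsg.M24 // orderOf g = m} := by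
  have hmem : Nat.card {g : G // orderOf g = n} ∈
      {c : ℕ | 0 < c ∧ ∃ n : ℕ, c = Nat.card {g : G // orderOf g = n}} := ⟨hpos, n, rfl⟩
  rw [show _ = _ from hs] at hmem
  exact hmem.2

theorem sylow_count (h : Nat.card G = 244823040) (hs : SameNse G) {p : ℕ} [hp : Fact p.Prime]
    (hp4 : p ∈ [5, 7, 11, 23]) : Nat.card (Sylow p G) = Nat.card (Sylow p M24) := by
  have hG := card_order_prime (G := G) (sylow_card_big h hp4)
  have hM := card_order_prime (G := M24) (sylow_card_big CfsgLib.Spor.card_M24 hp4)
  have hp5 : 5 ≤ p := by fin_cases hp4 <;> norm_num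
  have hpos : 0 < Nat.card {g : G // orderOf g = p} := by
    rw [hG]; exact Nat.mul_pos Nat.card_pos (by omega)
  obtain ⟨m, hm⟩ := exists_count hs hpos
  have hres : Nat.card {g : G // orderOf g = p} % p = p - 1 := by
    rw [hG, Nat.mul_mod, card_sylow_modEq_one p G, Nat.one_mod_eq_one.2 (by omega), one_mul, Nat.mod_mod,
      Nat.mod_eq_of_lt (by omega)]
  rw [hm] at hres
  have key : m = p := by
    fin_cases hp4
    · rw [residue_five] at hres
      exact count_residue (by norm_num) profiles.1 hres
    · rw [residue_seven] at hres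
      exact count_residue (by norm_num) profiles.2.1 hres
    all_goals
      rw [residue_big (by simp)] at hres
      split_ifs at hres with h1 h2
      · norm_num at hres
      · exact h2
  rw [key, hM, hG] at hm
  exact Nat.eq_of_mul_eq_mul_right (by omega) hm

theorem norm_card (h : Nat.card G = 244823040) (hs : SameNse G) {p : ℕ} [hp : Fact p.Prime]
    (hp4 : p ∈ [5, 7, 11, 23]) (P : Subgroup G) (hP : Nat.card P = p) :
    Nat.card (Sylow p M24) * Nat.card (normalizer (P : Set G)) = 244823040 := by
  obtain ⟨S, hS⟩ := (IsPGroup.of_card (p := p) (n := 1) (G := P) (by rw [hP, pow_one])).exists_le_sylow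
  have hSe : P = (S : Subgroup G) := eq_of_le_of_card_ge hS (by rw [sylow_card_big h hp4 S, hP])
  rw [hSe, ← sylow_count h hs hp4, S.card_eq_index_normalizer, ← h]
  exact index_mul_card _

theorem simple (h : Nat.card G = 244823040) (hs : SameNse G) : IsSimpleGroup G := by
  haveI : Fact (Nat.Prime 23) := ⟨by norm_num⟩
  exact simple_of_twentythree h ((sylow_count h hs (by simp)).trans sylow_numbers.1)

theorem norms (h : Nat.card G = 244823040) (hs : SameNse G) :
    (∀ P : Subgroup G, Nat.card P = 23 → Nat.card (normalizer (P : Set G)) = 253) ∧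
    (∀ P : Subgroup G, Nat.card P = 11 → Nat.card (normalizer (P : Set G)) = 110) ∧
    (∀ P : Subgroup G, Nat.card P = 7 → Nat.card (normalizer (P : Set G)) = 126) ∧
    (∀ P : Subgroup G, Nat.card P = 5 → Nat.card (normalizer (P : Set G)) = 240) := by
  haveI : Fact (Nat.Prime 23) := ⟨by norm_num⟩
  haveI : Fact (Nat.Prime 11) := ⟨by norm_num⟩
  haveI : Fact (Nat.Prime 7) := ⟨by norm_num⟩
  haveI : Fact (Nat.Prime 5) := ⟨by norm_num⟩
  obtain ⟨a, b, c, d⟩ := sylow_numbers
  refine ⟨fun P hP => ?_, fun P hP => ?_, fun P hP => ?_, fun P hP => ?_⟩ <;>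
    have := norm_card h hs (by simp) P hP
  · rw [a] at this; omega
  · rw [b] at this; omega
  · rw [c] at this; omega
  · rw [d] at this; omega

/-- A centralizer divides the order of the normalizer. -/
theorem cent_dvd {p N : ℕ} [Fact p.Prime] (hN : ∀ P : Subgroup G, Nat.card P = p →
    Nat.card (normalizer (P : Set G)) = N) {a : G} (ha : orderOf a = p) :
    Nat.card (centralizer ({a} : Set G)) ∣ N ∧ p ∣ Nat.card (centralizer ({a} : Set G)) := by
  refine ⟨hN (zpowers a) (by rw [Nat.card_zpowers, ha]) ▸ card_dvd_of_le (card_normalizer_dvd ha).2, ?_⟩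
  exact ha ▸ Subgroup.orderOf_dvd_natCard _ (mem_centralizer_singleton_iff.2 rfl)

/-- A prime of `C(a)` gives an element whose centralizer contains `a`. -/
theorem swap_prime {p q N : ℕ} [Fact p.Prime] [Fact q.Prime] (hN : ∀ P : Subgroup G, Nat.card P = q →
    Nat.card (normalizer (P : Set G)) = N) {a : G} (ha : orderOf a = p)
    (hq : q ∣ Nat.card (centralizer ({a} : Set G))) : p ∣ N := by
  obtain ⟨y, hy⟩ := exists_prime_orderOf_dvd_card' (G := centralizer ({a} : Set G)) q hq
  have hyo : orderOf (y : G) = q := by rw [Subgroup.orderOf_coe]; exact hy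
  have : a ∈ centralizer ({(y : G)} : Set G) :=
    mem_centralizer_singleton_iff.2 (mem_centralizer_singleton_iff.1 y.2).symm
  exact (ha ▸ Subgroup.orderOf_dvd_natCard _ this).trans (cent_dvd hN hyo).1

/-- No Sylow subgroup of prime order has its centralizer as normalizer. -/
theorem not_normalizer_cent [IsSimpleGroup G] (h : Nat.card G = 244823040) {p : ℕ} [hp : Fact p.Prime]
    (hp4 : p ∈ [5, 7, 11, 23]) {a : G} (ha : orderOf a = p) :
    Nat.card (centralizer ({a} : Set G)) ≠ Nat.card (normalizer (zpowers a : Set G)) := by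
  intro he
  obtain ⟨S, hS⟩ := (IsPGroup.of_card (p := p) (n := 1) (G := zpowers a)
    (by rw [Nat.card_zpowers, ha, pow_one])).exists_le_sylow
  have hSe : zpowers a = (S : Subgroup G) :=
    eq_of_le_of_card_ge hS (by rw [sylow_card_big h hp4 S, Nat.card_zpowers, ha])
  have hle : normalizer ((S : Subgroup G) : Set G) ≤ centralizer ((S : Subgroup G) : Set G) := by
    rw [← hSe]
    intro w hw
    rw [← eq_of_le_of_card_ge (card_normalizer_dvd ha).2 he.ge] at hw
    refine mem_centralizer_iff.2 fun u hu => ?_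
    obtain ⟨j, rfl⟩ := mem_zpowers_iff.1 hu
    exact ((show Commute w a from mem_centralizer_singleton_iff.1 hw).zpow_right j).eq.symm
  have hc := (MonoidHom.ker_transferSylow_isComplement' S hle).card_mul
  rw [sylow_card_big h hp4 S, h] at hc
  haveI := MonoidHom.normal_ker (MonoidHom.transferSylow S hle)
  rcases Subgroup.Normal.eq_bot_or_eq_top (MonoidHom.normal_ker (MonoidHom.transferSylow S hle)) with e | e
  · rw [e, card_bot, one_mul] at hc
    fin_cases hp4 <;> norm_num at hc
  · rw [e, card_top, h] at hc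
    fin_cases hp4 <;> norm_num at hc

/-- The numbers of involutions and of elements of order three agree modulo the small primes. -/
theorem small_counts (h : Nat.card G = 244823040) (hs : SameNse G) [IsSimpleGroup G] :
    (Nat.card {g : G // orderOf g = 2} % 11 = 0 ∧ Nat.card {g : G // orderOf g = 2} % 7 = 3 ∧
      Nat.card {g : G // orderOf g = 2} % 5 = 3) ∧
    ∀ {a : G}, orderOf a = 7 → Nat.card (centralizer ({a} : Set G)) = 42 →
      Nat.card {g : G // orderOf g = 3} % 5 = 3 := by
  haveI : Fact (Nat.Prime 23) := ⟨by norm_num⟩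
  haveI : Fact (Nat.Prime 11) := ⟨by norm_num⟩
  haveI : Fact (Nat.Prime 7) := ⟨by norm_num⟩
  haveI : Fact (Nat.Prime 5) := ⟨by norm_num⟩
  haveI : Fact (Nat.Prime 2) := ⟨Nat.prime_two⟩
  haveI : Fact (Nat.Prime 3) := ⟨Nat.prime_three⟩
  obtain ⟨n23, n11, n7, n5⟩ := norms h hs
  have hpos : ∀ q : ℕ, q.Prime → q ∣ Nat.card G → 0 < Nat.card {g : G // orderOf g = q} := fun q hq hd => by
    haveI := Fact.mk hq
    obtain ⟨g, hg⟩ := exists_prime_orderOf_dvd_card' (G := G) q hd
    haveI : Nonempty {g : G // orderOf g = q} := ⟨⟨g, hg⟩⟩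
    exact Nat.card_pos
  constructor
  · obtain ⟨x, hx⟩ := exists_prime_orderOf_dvd_card' (G := G) 23 (by rw [h]; norm_num)
    have h23 : Nat.card {g : G // orderOf g = 2} % 23 = 0 := by
      have key := card_order_modEq hx 2
      rw [card_comm_cent] at key
      haveI hE : IsEmpty {t : centralizer ({x} : Set G) // orderOf t = 2} := ⟨fun t => by
        have := (orderOf_dvd_natCard t.1).trans (cent_dvd n23 hx).1
        rw [t.2] at this
        norm_num at this⟩
      rw [@Nat.card_of_isEmpty _ hE] at key
      exact key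
    have hodd : Nat.card {g : G // orderOf g = 2} % 2 = 1 := by
      classical
      haveI := Fintype.ofFinite G
      have h2 : ((Nat.card {g : G // g ^ 2 = 1} : ℕ) : ZMod 2) = 0 := by
        rw [Nat.card_eq_fintype_card, Fintype.card_subtype, Finset.card_eq_sum_ones, Nat.cast_sum]
        obtain ⟨z, hz⟩ := exists_prime_orderOf_dvd_card' (G := G) 2 (by rw [h]; norm_num)
        have hall : ∑ g : G, (1 : ZMod 2) = 0 := by
          rw [Finset.sum_const, Finset.card_univ, nsmul_one, ← Nat.card_eq_fintype_card, h]; exact (ZMod.natCast_eq_zero_iff _ 2).2 (by norm_num)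
        have hrest : ∑ g ∈ Finset.univ.filter (fun g : G => ¬ g ^ 2 = 1), (1 : ZMod 2) = 0 := by
          refine Finset.sum_involution (fun g _ => g⁻¹) (fun _ _ => CharTwo.add_self_eq_zero _) (fun g hg _ e => ?_)
            (fun g hg => ?_) (fun g _ => inv_inv g)
          · refine (Finset.mem_filter.1 hg).2 ?_
            rw [pow_two]; nth_rewrite 1 [← e]; exact inv_mul_cancel g
          · simpa using hg
        rw [← Finset.sum_filter_add_sum_filter_not (s := Finset.univ) (p := fun g : G => g ^ 2 = 1), hrest,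
          add_zero] at hall
        simpa using hall
      rw [ZMod.natCast_eq_zero_iff] at h2
      have hsplit : Nat.card {g : G // g ^ 2 = 1} = Nat.card {g : G // orderOf g = 2} + 1 := by
        rw [Nat.card_eq_fintype_card, Nat.card_eq_fintype_card, Fintype.card_subtype, Fintype.card_subtype,
          ← Finset.card_insert_of_notMem (a := (1 : G)) (by simp)]
        congr 1
        ext g
        simp only [Finset.mem_insert, Finset.mem_filter, Finset.mem_univ, true_and]
        constructor
        · intro hg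
          rcases (Nat.dvd_prime Nat.prime_two).1 (orderOf_dvd_of_pow_eq_one hg) with e | e
          · exact Or.inl (orderOf_eq_one_iff.1 e)
          · exact Or.inr e
        · rintro (rfl | hg)
          · exact one_pow 2
          · exact orderOf_dvd_iff_pow_eq_one.1 (dvd_of_eq hg)
      omega
    obtain ⟨m, hm⟩ := exists_count hs (hpos 2 Nat.prime_two (by rw [h]; norm_num))
    rw [hm] at h23 hodd ⊢
    have hm2 : m = 2 := by
      rw [residue_big (by simp)] at h23
      by_contra hne
      rcases Nat.lt_or_ge m 3 with hlt | hge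
      · interval_cases m
        · haveI : IsEmpty {g : ↥Cfsg.M24 // orderOf g = 0} := ⟨fun g => (orderOf_pos g.1).ne' g.2⟩
          rw [Nat.card_of_isEmpty] at hodd
          omega
        · norm_num at h23
        · exact hne rfl
      · have := Nat.mod_eq_zero_of_dvd (even_count (G := ↥Cfsg.M24) hge)
        omega
    subst hm2
    refine ⟨?_, ?_, ?_⟩
    · rw [residue_big (by simp)]; rfl
    · rw [residue_seven, sevenCent_facts.2.2.1]
    · rw [residue_five, fiveCent_orders.2.1]
  · intro a ha hC
    have h7 : Nat.card {g : G // orderOf g = 3} % 7 = 2 := by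
      have key := card_order_modEq ha 3
      rw [card_comm_cent, seven_three (x := ⟨a, mem_centralizer_singleton_iff.2 rfl⟩)
        ((orderOf_mk a _).trans ha) (self_central a) hC] at key
      exact key
    obtain ⟨m, hm⟩ := exists_count hs (hpos 3 Nat.prime_three (by rw [h]; norm_num))
    rw [hm, residue_seven] at h7
    rw [hm, count_residue (by norm_num) profiles.2.2 h7, residue_five, fiveCent_orders.2.2.1]

/-- The data at the primes 23, 11, 7 and 5 and the shapes of the centralizers. -/
theorem params_of_nse (h : Nat.card G = 244823040) (hs : SameNse G) :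
    IsSimpleGroup G ∧ Params G ∧ PartShapes G := by
  haveI : Fact (Nat.Prime 23) := ⟨by norm_num⟩
  haveI : Fact (Nat.Prime 11) := ⟨by norm_num⟩
  haveI : Fact (Nat.Prime 7) := ⟨by norm_num⟩
  haveI : Fact (Nat.Prime 5) := ⟨by norm_num⟩
  haveI : Fact (Nat.Prime 2) := ⟨Nat.prime_two⟩
  haveI := simple h hs
  obtain ⟨n23, n11, n7, n5⟩ := norms h hs
  obtain ⟨⟨t11, t7, t5⟩, hthree⟩ := small_counts h hs
  have c11 : ∀ a : G, orderOf a = 11 → Nat.card (centralizer ({a} : Set G)) = 11 := by
    intro a ha
    obtain ⟨hd, hp⟩ := cent_dvd n11 ha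
    set c := Nat.card (centralizer ({a} : Set G)) with hc
    have h5 : ¬ 5 ∣ c := fun hd5 => by
      have := swap_prime n5 ha hd5
      norm_num at this
    obtain ⟨j, hj⟩ := hp
    have hj10 : j ∣ 10 := Nat.dvd_of_mul_dvd_mul_left (by norm_num : 0 < 11) (hj ▸ hd : 11 * j ∣ 11 * 10)
    have := Nat.le_of_dvd (by norm_num) hj10
    interval_cases j <;> first | omega | skip
    · exfalso
      have h1 := two_mul_inv_one (p := 11) (by norm_num) (x := ⟨a, mem_centralizer_singleton_iff.2 rfl⟩)
        ((orderOf_mk a _).trans ha) (self_central a) (hc ▸ hj)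
      have := (card_order_modEq ha 2).trans (Nat.ModEq.refl _)
      rw [card_comm_cent, h1] at this
      unfold Nat.ModEq at this
      omega
  have c7 : ∀ a : G, orderOf a = 7 → Nat.card (centralizer ({a} : Set G)) = 42 := by
    intro a ha
    obtain ⟨hd, hp⟩ := cent_dvd n7 ha
    set c := Nat.card (centralizer ({a} : Set G)) with hc
    have hne : c ≠ 126 := fun e => by
      refine not_normalizer_cent h (by simp) ha ?_
      rw [n7 _ (by rw [Nat.card_zpowers, ha])]
      exact e
    have hinv : Nat.card {t : centralizer ({a} : Set G) // orderOf t = 2} % 7 = 3 := by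
      rw [← card_comm_cent]
      have key := card_order_modEq ha 2
      have kv := t7
      unfold Nat.ModEq at key
      omega
    have h2c : 2 ∣ c := by
      obtain ⟨t⟩ : Nonempty {t : centralizer ({a} : Set G) // orderOf t = 2} :=
        (Nat.card_pos_iff.1 (by omega)).1
      exact hc ▸ t.2 ▸ orderOf_dvd_natCard t.1
    obtain ⟨j, hj⟩ := hp
    have hj18 : j ∣ 18 := Nat.dvd_of_mul_dvd_mul_left (by norm_num : 0 < 7) (hj ▸ hd : 7 * j ∣ 7 * 18)
    have := Nat.le_of_dvd (by norm_num) hj18
    interval_cases j <;> first | omega | skip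
    · exfalso
      have h1 := two_mul_inv_one (p := 7) (by norm_num) (x := ⟨a, mem_centralizer_singleton_iff.2 rfl⟩)
        ((orderOf_mk a _).trans ha) (self_central a) (hc ▸ hj)
      omega
  have hC5 : ∀ a : G, orderOf a = 5 → Nat.card (centralizer ({a} : Set G)) = 60 ∧
      ∀ g : centralizer ({a} : Set G), orderOf g ≠ 20 ∧ orderOf g ≠ 30 := by
    intro a ha
    obtain ⟨hd, hp⟩ := cent_dvd n5 ha
    have hinv : Nat.card {t : centralizer ({a} : Set G) // orderOf t = 2} % 5 = 3 := by
      rw [← card_comm_cent]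
      have key := card_order_modEq ha 2
      have kv := t5
      unfold Nat.ModEq at key
      omega
    have hth : Nat.card {t : centralizer ({a} : Set G) // orderOf t = 3} % 5 = 3 := by
      obtain ⟨w, hw⟩ := exists_prime_orderOf_dvd_card' (G := G) 7 (by rw [h]; norm_num)
      rw [← card_comm_cent]
      have key := card_order_modEq ha 3
      have kv := hthree hw (c7 w hw)
      unfold Nat.ModEq at key
      omega
    refine five_structure (x := ⟨a, mem_centralizer_singleton_iff.2 rfl⟩) ((orderOf_mk a _).trans ha)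
      (self_central a) ?_ hp hinv hth
    have h3c : 3 ∣ Nat.card (centralizer ({a} : Set G)) := by
      obtain ⟨t⟩ : Nonempty {t : centralizer ({a} : Set G) // orderOf t = 3} :=
        (Nat.card_pos_iff.1 (by omega)).1
      exact t.2 ▸ orderOf_dvd_natCard t.1
    obtain ⟨j, hj⟩ : 5 * 3 ∣ Nat.card (centralizer ({a} : Set G)) :=
      Nat.Coprime.mul_dvd_of_dvd_of_dvd (by norm_num) hp h3c
    have hne : Nat.card (centralizer ({a} : Set G)) ≠ 240 := fun e => by
      refine not_normalizer_cent h (by simp) ha ?_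
      rw [n5 _ (by rw [Nat.card_zpowers, ha])]
      exact e
    have hj16 : j ∣ 16 := Nat.dvd_of_mul_dvd_mul_left (by norm_num : 0 < 5 * 3) (hj ▸ hd : 5 * 3 * j ∣ 5 * 3 * 16)
    have := Nat.le_of_dvd (by norm_num) hj16
    rw [hj] at hne ⊢
    interval_cases j <;> first | omega | norm_num
  have c5 : ∀ a : G, orderOf a = 5 → Nat.card (centralizer ({a} : Set G)) = 60 := fun a ha => (hC5 a ha).1
  have hpow : ∀ (g : G) (k q : ℕ), orderOf g = k * q → 0 < q → orderOf (g ^ k) = q := by
    intro g k q hg hq
    have hk : k ≠ 0 := fun e => by rw [e, zero_mul] at hg; exact (orderOf_pos g).ne' hg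
    rw [orderOf_pow' _ hk, hg, Nat.gcd_eq_right (dvd_mul_right k q), Nat.mul_div_cancel_left _ (Nat.pos_of_ne_zero hk)]
  have hmemc : ∀ (g : G) (k : ℕ), g ∈ centralizer ({g ^ k} : Set G) := fun g k =>
    mem_centralizer_singleton_iff.2 (Commute.self_pow g k).eq
  refine ⟨inferInstance,
    { card_eq := h
      cent_big := fun a ha => ?_
      norm_big := n23
      cent_eleven := c11
      norm_eleven := n11
      cent_five := c5
      norm_five := n5
      cent_seven := c7
      norm_seven := n7 },
    { no_twenty := fun g hg => ?_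
      no_thirty := fun g hg => ?_
      no_fortytwo := fun g hg => ?_ }⟩
  · obtain ⟨hd, hp⟩ := cent_dvd n23 ha
    obtain ⟨j, hj⟩ := hp
    have hj11 : j ∣ 11 := Nat.dvd_of_mul_dvd_mul_left (by norm_num : 0 < 23) (hj ▸ hd : 23 * j ∣ 23 * 11)
    rcases (Nat.dvd_prime (by norm_num : Nat.Prime 11)).1 hj11 with rfl | rfl
    · exact hj
    · exfalso
      have := swap_prime n11 ha (hj ▸ dvd_mul_left 11 23)
      norm_num at this
  · exact ((hC5 (g ^ 4) (hpow g 4 5 hg (by norm_num))).2 ⟨g, hmemc g 4⟩).1 ((orderOf_mk g _).trans hg)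
  · exact ((hC5 (g ^ 6) (hpow g 6 5 hg (by norm_num))).2 ⟨g, hmemc g 6⟩).2 ((orderOf_mk g _).trans hg)
  · have ha := hpow g 6 7 hg (by norm_num)
    haveI : IsCyclic ↥(centralizer ({g ^ 6} : Set G)) :=
      isCyclic_of_orderOf_eq_card ⟨g, hmemc g 6⟩ (((orderOf_mk g _).trans hg).trans (c7 _ ha).symm)
    have h1 := cyclic_inv_one (C := ↥(centralizer ({g ^ 6} : Set G))) (by rw [c7 _ ha]; norm_num)
    have h2 := (card_order_modEq ha 2)
    rw [card_comm_cent, h1] at h2
    unfold Nat.ModEq at h2
    omega

end CfsgLib.Char.MTwentyFourOrder
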